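import Cfsg.Agent.Lib.FgsC.CaminaKernel.GroupAlg
import Cfsg.Agent.Lib.PGroups.Basic
import Cfsg.Agent.S4142

/-!
For a Camina pair `(P, Q)` of p-groups no character of the centre of `F[Q]` has stabiliser `Q`.
-/

set_option autoImplicit false
set_option linter.unusedSectionVars false
set_option linter.style.haveILetI false

namespace CfsgLib.FgsC.CaminaKernel

open Finset MulAction

variable {P : Type*} [Group P] [Finite P]

/-- Every coset outside `Q` lies in one class. -/
def Cam (Q : Subgroup P) : Prop := ∀ g : P, g ∉ Q → ∀ n ∈ Q, ∃ x : P, x * g * x⁻¹ = g * n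

theorem Cam.card_centralizer {Q : Subgroup P} [Q.Normal] (h : Cam Q) {g : P} (hg : g ∉ Q) :
    Nat.card (Subgroup.centralizer ({g} : Set P)) =
      Nat.card (Subgroup.centralizer ({(g : P ⧸ Q)} : Set (P ⧸ Q))) :=
  (Cfsg.Agent.S4142.result Q).mp h g hg

theorem card_preimage {Q : Subgroup P} [Q.Normal] (S : Subgroup (P ⧸ Q)) :
    Nat.card (S.comap (QuotientGroup.mk' Q)) = Nat.card Q * Nat.card S := by
  rw [← Nat.card_prod]
  exact Nat.card_congr (QuotientGroup.preimageMkEquivSubgroupProdSet Q (S : Set (P ⧸ Q)))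

section Orbits

variable {X : Type*} [MulAction P X]

theorem fixedBy_conj_card [Finite X] (b g : P) :
    Nat.card (fixedBy X (b * g * b⁻¹)) = Nat.card (fixedBy X g) :=
  Nat.card_congr
    { toFun := fun u => ⟨b⁻¹ • (u : X), by
        rw [mem_fixedBy]
        have h : (b * g * b⁻¹) • (u : X) = u := u.2
        conv_rhs => rw [← h]
        simp [mul_smul]⟩
      invFun := fun u => ⟨b • (u : X), by
        rw [mem_fixedBy, ← mul_smul, inv_mul_cancel_right, mul_smul, show g • (u : X) = u from u.2]⟩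
      left_inv := fun u => Subtype.ext (by simp)
      right_inv := fun u => Subtype.ext (by simp) }

/-- Burnside's count for `⟨Q, x⟩`, all elements outside `Q` being conjugate to powers of `x`. -/
theorem orbit_count [Finite X] {p : ℕ} [hp : Fact p.Prime] (hP : IsPGroup p P) {Q : Subgroup P}
    [Q.Normal] (h : Cam Q) {x : P} (hx : x ∉ Q) (hxp : x ^ p ∈ Q) :
    p * Nat.card (orbitRel.Quotient ((Subgroup.zpowers (x : P ⧸ Q)).comap (QuotientGroup.mk' Q)) X)
      = Nat.card (orbitRel.Quotient Q X) + (p - 1) * Nat.card (fixedBy X x) := by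
  classical
  haveI := Fintype.ofFinite X
  haveI := Fintype.ofFinite P
  set D := (Subgroup.zpowers (x : P ⧸ Q)).comap (QuotientGroup.mk' Q) with hD
  have hord : orderOf (x : P ⧸ Q) = p := orderOf_eq_prime
    (by rw [← QuotientGroup.mk_pow, QuotientGroup.eq_one_iff]; exact hxp)
    (fun h1 => hx ((QuotientGroup.eq_one_iff x).mp h1))
  have hcardD : Nat.card D = Nat.card Q * p := by
    rw [hD, card_preimage, Nat.card_zpowers, hord]
  have hQD : Q ≤ D := fun q hq => by
    show (q : P ⧸ Q) ∈ Subgroup.zpowers (x : P ⧸ Q)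
    rw [(QuotientGroup.eq_one_iff q).mpr hq]
    exact one_mem _
  have hout : ∀ d ∈ D, d ∉ Q → Nat.card (fixedBy X d) = Nat.card (fixedBy X x) := by
    intro d hd hdQ
    obtain ⟨i, hi⟩ := mem_powers_iff_mem_zpowers.mpr (show (d : P ⧸ Q) ∈ Subgroup.zpowers _ from hd)
    have hi' : ((x ^ i : P) : P ⧸ Q) = (d : P ⧸ Q) := hi
    have hn : (x ^ i)⁻¹ * d ∈ Q := QuotientGroup.eq.mp hi'
    have hiQ : x ^ i ∉ Q := fun hiQ => hdQ (by
      simpa using Q.mul_mem hiQ hn)
    obtain ⟨b, hb⟩ := h (x ^ i) hiQ _ hn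
    rw [mul_inv_cancel_left] at hb
    rw [← hb, fixedBy_conj_card]
    -- `x` is a power of `x ^ i`
    have hpi : ¬ p ∣ i := fun ⟨j, hj⟩ => hiQ (by rw [hj, pow_mul]; exact Q.pow_mem hxp j)
    obtain ⟨k, hk⟩ := IsPGroup.iff_orderOf.mp hP x
    obtain ⟨j, hj⟩ := exists_pow_eq_self_of_coprime (x := x) (n := i) (by
      rw [hk]
      exact Nat.Coprime.pow_right k ((Nat.Prime.coprime_iff_not_dvd hp.out).mpr hpi).symm)
    have hpow : ∀ (g : P) (n : ℕ), fixedBy X g ⊆ fixedBy X (g ^ n) := by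
      intro g n u hu
      induction n with
      | zero => simp
      | succ n ih => rw [mem_fixedBy, pow_succ, mul_smul, show g • u = u from hu]; exact ih
    refine Nat.card_congr (Equiv.setCongr (Set.Subset.antisymm ?_ (hpow x i)))
    conv_rhs => rw [← hj]
    exact hpow (x ^ i) j
  have hB : ∀ (E : Subgroup P), ∑ e : E, Nat.card (fixedBy X (e : P))
      = Nat.card (orbitRel.Quotient E X) * Nat.card E := by
    intro E
    haveI := Fintype.ofFinite (orbitRel.Quotient E X)
    have h1 := MulAction.sum_card_fixedBy_eq_card_orbits_mul_card_group E X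
    rw [Nat.card_eq_fintype_card, Nat.card_eq_fintype_card, ← h1]
    exact sum_congr rfl fun e _ => by rw [← Nat.card_eq_fintype_card]; rfl
  have hDsum := hB D
  have hQsum := hB Q
  rw [← sum_subtype (univ.filter (· ∈ D)) (fun y => by simp)
    (fun y => Nat.card (fixedBy X y))] at hDsum
  rw [← sum_subtype (univ.filter (· ∈ Q)) (fun y => by simp)
    (fun y => Nat.card (fixedBy X y))] at hQsum
  have hsplit : (univ.filter (· ∈ D)) = (univ.filter (· ∈ Q)) ∪
      (univ.filter fun y => y ∈ D ∧ y ∉ Q) := by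
    ext y
    simp only [mem_filter, mem_univ, true_and, mem_union]
    exact ⟨fun hy => (em (y ∈ Q)).imp id fun h => ⟨hy, h⟩, fun hy => hy.elim (@hQD y) And.left⟩
  have hdisj : Disjoint (univ.filter (· ∈ Q)) (univ.filter fun y => y ∈ D ∧ y ∉ Q) :=
    disjoint_filter.mpr fun y _ hy h => h.2 hy
  have hcnt : Nat.card Q + (univ.filter fun y => y ∈ D ∧ y ∉ Q).card = Nat.card Q * p := by
    rw [← hcardD, ← Fintype.card_eq_nat_card, ← Fintype.card_eq_nat_card, Fintype.card_subtype,
      Fintype.card_subtype, ← card_union_of_disjoint hdisj, ← hsplit]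
  rw [hsplit, sum_union hdisj, hQsum,
    sum_congr rfl (fun y hy => hout y (mem_filter.mp hy).2.1 (mem_filter.mp hy).2.2), sum_const,
    smul_eq_mul, hcardD] at hDsum
  have hc : (univ.filter fun y => y ∈ D ∧ y ∉ Q).card = Nat.card Q * (p - 1) := by
    rw [Nat.mul_sub, mul_one]
    omega
  rw [hc] at hDsum
  refine Nat.eq_of_mul_eq_mul_left (Nat.card_pos : 0 < Nat.card Q) ?_
  calc Nat.card Q * (p * Nat.card (orbitRel.Quotient D X))
      = Nat.card (orbitRel.Quotient D X) * (Nat.card Q * p) := by ring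
    _ = _ := by rw [← hDsum]; ring

/-- Invariant functions. -/
def invFun (F : Type*) [Field F] (D : Subgroup P) (X : Type*) [MulAction P X] :
    Submodule F (X → F) where
  carrier := {f | ∀ d ∈ D, ∀ u, f (d • u) = f u}
  add_mem' := fun hf hg d hd u => by simp [hf d hd u, hg d hd u]
  zero_mem' := fun _ _ _ => rfl
  smul_mem' := fun c f hf d hd u => by simp [hf d hd u]

theorem finrank_invFun (F : Type*) [Field F] (D : Subgroup P) [Finite X] :
    Module.finrank F (invFun F D X) = Nat.card (orbitRel.Quotient D X) := by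
  haveI := Fintype.ofFinite (orbitRel.Quotient D X)
  let φ : (orbitRel.Quotient D X → F) →ₗ[F] invFun F D X :=
    { toFun := fun f => ⟨fun u => f (Quotient.mk'' u), fun d hd u => congrArg f
        (Quotient.sound' (show (d • u) ∈ orbit D u from ⟨⟨d, hd⟩, rfl⟩))⟩
      map_add' := fun _ _ => rfl
      map_smul' := fun _ _ => rfl }
  have hφ : Function.Bijective φ := by
    refine ⟨fun f g hfg => funext fun o => ?_, fun f => ?_⟩
    · induction o using Quotient.inductionOn' with
      | h u => exact congrFun (congrArg Subtype.val hfg) u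
    · refine ⟨Quotient.lift f.1 (fun u v (huv : u ∈ orbit D v) => ?_), rfl⟩
      obtain ⟨⟨d, hd⟩, rfl⟩ := huv
      exact f.2 d hd v
  rw [← (LinearEquiv.ofBijective φ hφ).finrank_eq, Module.finrank_pi, Nat.card_eq_fintype_card]

end Orbits

variable (F : Type*) [Field F] [IsAlgClosed F]

/-- Conjugation on a normal subgroup. -/
@[reducible] def conjAction (U : Subgroup P) [U.Normal] : MulAction P U :=
  MulAction.compHom U (MulAut.conjNormal : P →* MulAut U)

/-- The dimension of the invariant part, from the elements and from the characters. -/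
theorem orbits_eq (hF : (Nat.card P : F) ≠ 0) {Q U : Subgroup P} [Q.Normal] [U.Normal]
    (hUQ : U ≤ Q) (D : Subgroup P) (hQD : Q ≤ D) :
    letI := conjAction U
    Nat.card (orbitRel.Quotient D U) =
      Nat.card (orbitRel.Quotient D (alg F Q U →ₐ[F] F)) := by
  classical
  letI := conjAction U
  haveI := Fintype.ofFinite P
  rw [← finrank_invFun F D (X := U), ← finrank_invFun F D (X := (alg F Q U →ₐ[F] F))]
  let φ : invFun F D U →ₗ[F] alg F D U :=
    { toFun := fun f => ⟨el F (fun g => if hg : g ∈ U then f.1 ⟨g, hg⟩ else 0), by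
        refine mem_alg.mpr ⟨mem_supp_of_coeff fun g hg => ?_, fun d hd => ?_⟩
        · rw [coeff_el, dif_neg (show g ∉ U from hg)]
        · apply MonoidAlgebra.coeff_injective
          ext g
          rw [coeff_cg, coeff_el, coeff_el]
          by_cases hg : g ∈ U
          · have hg' : d⁻¹ * g * d ∈ U := by
              simpa using (inferInstance : U.Normal).conj_mem g hg d⁻¹
            rw [dif_pos hg, dif_pos hg', ← f.2 d hd ⟨d⁻¹ * g * d, hg'⟩]
            exact congrArg f.1 (Subtype.ext (show g = d * (d⁻¹ * g * d) * d⁻¹ by group) :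
              (⟨g, hg⟩ : U) = d • ⟨d⁻¹ * g * d, hg'⟩).symm
          · rw [dif_neg hg, dif_neg fun hg' => hg (by
              have h := (inferInstance : U.Normal).conj_mem _ hg' d
              rwa [show d * (d⁻¹ * g * d) * d⁻¹ = g by group] at h)]⟩
      map_add' := fun f f' => Subtype.ext (by
        apply MonoidAlgebra.coeff_injective
        ext g
        simp only [Subalgebra.coe_add, MonoidAlgebra.coeff_add, Finsupp.coe_add, Pi.add_apply,
          coeff_el]
        split <;> simp)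
      map_smul' := fun c f => Subtype.ext (by
        apply MonoidAlgebra.coeff_injective
        ext g
        simp only [SetLike.val_smul, MonoidAlgebra.coeff_smul, Finsupp.coe_smul, Pi.smul_apply,
          coeff_el, RingHom.id_apply]
        split <;> simp) }
  have hφ : Function.Bijective φ := by
    refine ⟨fun f f' hff => Subtype.ext (funext fun u => ?_), fun a => ?_⟩
    · have h1 := congrArg (fun a : alg F D U => (a : MonoidAlgebra F P).coeff (u : P)) hff
      simpa [φ, coeff_el] using h1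
    · refine ⟨⟨fun u => (a : MonoidAlgebra F P).coeff (u : P), fun d hd u => ?_⟩, Subtype.ext ?_⟩
      · show (a : MonoidAlgebra F P).coeff (d * u * d⁻¹) = _
        conv_lhs => rw [← a.2.2 d hd]
        rw [coeff_cg]
        congr 1
        group
      · conv_rhs => rw [← el_coeff (a : MonoidAlgebra F P)]
        refine congrArg (el F) (funext fun g => ?_)
        split
        · rfl
        · next hg => exact (coeff_eq_zero_of_mem_supp a.2.1 hg).symm
  rw [(LinearEquiv.ofBijective φ hφ).finrank_eq]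
  have hle : alg F D U ≤ alg F Q U := fun a ha => ⟨ha.1, fun q hq => ha.2 q (hQD hq)⟩
  have hgel := gelfand_bijective (F := F) hUQ hF
  let ψ : alg F D U →ₗ[F] invFun F D (alg F Q U →ₐ[F] F) :=
    { toFun := fun a => ⟨gelfand Q U ⟨a, hle a.2⟩, fun d hd χ => by
        show χ (conjA d⁻¹ ⟨a, hle a.2⟩) = χ ⟨a, hle a.2⟩
        exact congrArg χ (Subtype.ext (a.2.2 _ (D.inv_mem hd)))⟩
      map_add' := fun a b => Subtype.ext (map_add (gelfand Q U) ⟨a, hle a.2⟩ ⟨b, hle b.2⟩)
      map_smul' := fun c a => Subtype.ext (map_smul (gelfand Q U) c ⟨a, hle a.2⟩) }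
  refine (LinearEquiv.ofBijective ψ ⟨fun a b hab => ?_, fun f => ?_⟩).finrank_eq
  · exact Subtype.ext (congrArg (fun u : alg F Q U => (u : MonoidAlgebra F P))
      (hgel.1 (congrArg Subtype.val hab)))
  · obtain ⟨a, ha⟩ := hgel.2 f.1
    refine ⟨⟨a, mem_alg.mpr ⟨a.2.1, fun d hd => ?_⟩⟩, Subtype.ext ha⟩
    refine congrArg Subtype.val (hgel.1 (funext fun χ => ?_) : conjA d a = a)
    have h1 := f.2 d⁻¹ (D.inv_mem hd) χ
    rw [← ha] at h1
    show χ (conjA d a) = χ a
    calc χ (conjA d a) = χ (conjA d⁻¹⁻¹ a) := by rw [inv_inv]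
      _ = _ := h1

/-- The number of fixed characters is the number of fixed elements. -/
theorem card_fixedBy (hF : (Nat.card P : F) ≠ 0) {p : ℕ} [hp : Fact p.Prime] (hP : IsPGroup p P)
    {Q U : Subgroup P} [Q.Normal] [U.Normal] (hUQ : U ≤ Q) (h : Cam Q) {x : P} (hx : x ∉ Q)
    (hxp : x ^ p ∈ Q) :
    Nat.card (fixedBy (alg F Q U →ₐ[F] F) x) =
      Nat.card (U ⊓ Subgroup.centralizer ({x} : Set P) : Subgroup P) := by
  haveI := Fintype.ofFinite P
  letI := conjAction U
  have h1 := orbit_count (X := U) hP h hx hxp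
  have h2 := orbit_count (X := (alg F Q U →ₐ[F] F)) hP h hx hxp
  have hQD : Q ≤ (Subgroup.zpowers (x : P ⧸ Q)).comap (QuotientGroup.mk' Q) := fun q hq => by
    show (q : P ⧸ Q) ∈ Subgroup.zpowers (x : P ⧸ Q)
    rw [(QuotientGroup.eq_one_iff q).mpr hq]
    exact one_mem _
  rw [orbits_eq F hF hUQ _ hQD, orbits_eq F hF hUQ Q le_rfl, h2] at h1
  have h3 := Nat.eq_of_mul_eq_mul_left (by have := hp.out.two_le; omega) (Nat.add_left_cancel h1)
  rw [h3]
  refine Nat.card_congr
    { toFun := fun u => ⟨(u : U), (u : U).2, Subgroup.mem_centralizer_singleton_iff.mpr ?_⟩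
      invFun := fun u => ⟨⟨u, u.2.1⟩, ?_⟩
      left_inv := fun u => rfl
      right_inv := fun u => rfl }
  · have h4 : x * ((u : U) : P) * x⁻¹ = (u : U) := congrArg Subtype.val (u.2 : x • (u : U) = u)
    exact (mul_inv_eq_iff_eq_mul.mp h4).symm
  · refine Subtype.ext ?_
    show x * (u : P) * x⁻¹ = (u : P)
    rw [mul_inv_eq_iff_eq_mul]
    exact (Subgroup.mem_centralizer_singleton_iff.mp u.2.2).symm

variable {F}

/-- Restriction of characters. -/
noncomputable def res {Q U U' : Subgroup P} (h : U ≤ U') (χ : alg F Q U' →ₐ[F] F) :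
    alg F Q U →ₐ[F] F :=
  χ.comp (Subalgebra.inclusion (alg_mono h))

theorem res_smul {Q U U' : Subgroup P} [Q.Normal] [U.Normal] [U'.Normal] (h : U ≤ U') (g : P)
    (χ : alg F Q U' →ₐ[F] F) : res h (g • χ) = g • res h χ := rfl

/-- At most `p` extensions along a step of index `p`. -/
theorem card_ext_le {p : ℕ} [hp : Fact p.Prime] {Q U U' : Subgroup P} [Q.Normal] [U.Normal]
    (hUU' : U ≤ U') (hU'Q : U' ≤ Q) {t : P ⧸ U} (ht : orderOf t = p)
    (htc : ∀ g : P, (g : P ⧸ U) * t = t * g)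
    (hU' : ∀ g : P, g ∈ U' ↔ (g : P ⧸ U) ∈ Subgroup.zpowers t) (χ₀ : alg F Q U →ₐ[F] F) :
    Nat.card {χ : alg F Q U' →ₐ[F] F // res hUU' χ = χ₀} ≤ p := by
  classical
  haveI := Fintype.ofFinite P
  let T : ℕ → Set P := fun i => {g | (g : P ⧸ U) = t ^ i}
  have hT0 : ∀ {a : MonoidAlgebra F P} {i : ℕ}, p ∣ i → a ∈ supp F (T i) → a ∈ supp F (U : Set P) := by
    intro a i hi ha
    refine supp_mono (fun g hg => ?_) ha
    obtain ⟨j, rfl⟩ := hi
    have hg' : (g : P ⧸ U) = t ^ (p * j) := hg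
    rw [pow_mul, ← ht, pow_orderOf_eq_one, one_pow] at hg'
    exact (QuotientGroup.eq_one_iff g).mp hg'
  have hmul : ∀ {a b : MonoidAlgebra F P} {i j : ℕ}, a ∈ supp F (T i) → b ∈ supp F (T j) →
      a * b ∈ supp F (T (i + j)) := fun ha hb => mul_mem_supp (fun x hx y hy => by
        show ((x * y : P) : P ⧸ U) = t ^ _
        rw [QuotientGroup.mk_mul, show (x : P ⧸ U) = t ^ _ from hx,
          show (y : P ⧸ U) = t ^ _ from hy, ← pow_add]) ha hb
  have hpow : ∀ {a : MonoidAlgebra F P} {i : ℕ}, a ∈ supp F (T i) → ∀ k, a ^ k ∈ supp F (T (i * k)) := by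
    intro a i ha k
    induction k with
    | zero =>
      rw [pow_zero, mul_zero, ← map_one (MonoidAlgebra.of F P)]
      exact of_mem_supp (by show ((1 : P) : P ⧸ U) = t ^ 0; rw [pow_zero]; rfl)
    | succ k ih => rw [pow_succ, mul_add, mul_one]; exact hmul ih ha
  -- elements supported on U are in the small algebra
  have hsmall : ∀ (χ : alg F Q U' →ₐ[F] F), res hUU' χ = χ₀ → ∀ (a : alg F Q U')
      (ha : (a : MonoidAlgebra F P) ∈ supp F (U : Set P)), χ a = χ₀ ⟨a, ha, a.2.2⟩ := by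
    intro χ hχ a ha
    rw [← hχ]
    rfl
  -- the homogeneous parts
  let part : alg F Q U' → ℕ → alg F Q U' := fun a i =>
    ⟨el F (fun g => if (g : P ⧸ U) = t ^ i then (a : MonoidAlgebra F P).coeff g else 0), by
      refine mem_alg.mpr ⟨mem_supp_of_coeff fun g hg => ?_, fun q hq => ?_⟩
      · rw [coeff_el]
        split
        · exact coeff_eq_zero_of_mem_supp a.2.1 hg
        · rfl
      · apply MonoidAlgebra.coeff_injective
        ext g
        rw [coeff_cg, coeff_el, coeff_el]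
        have hcl : ((q⁻¹ * g * q : P) : P ⧸ U) = t ^ i ↔ (g : P ⧸ U) = t ^ i := by
          have hci : ∀ y : P, (y : P ⧸ U) * t ^ i = t ^ i * y := fun y =>
            ((show Commute (y : P ⧸ U) t from htc y).pow_right i).eq
          simp only [QuotientGroup.mk_mul, QuotientGroup.mk_inv]
          rw [mul_assoc, inv_mul_eq_iff_eq_mul, hci q, mul_left_inj]
        simp only [hcl]
        split
        · conv_rhs => rw [← a.2.2 q hq, coeff_cg]
        · rfl⟩
  have hpart : ∀ a i, (part a i : MonoidAlgebra F P) ∈ supp F (T i) := fun a i =>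
    mem_supp_of_coeff fun g hg => by
      show (el F _).coeff g = 0
      rw [coeff_el, if_neg (show ¬ (g : P ⧸ U) = t ^ i from hg)]
  have hsum : ∀ a : alg F Q U', a = ∑ i ∈ range p, part a i := by
    intro a
    apply Subtype.ext
    rw [AddSubmonoidClass.coe_finsetSum]
    apply MonoidAlgebra.coeff_injective
    ext g
    rw [MonoidAlgebra.coeff_sum, Finsupp.finsetSum_apply]
    simp only [part, coeff_el]
    by_cases hg : g ∈ U'
    · obtain ⟨k, hk⟩ := mem_powers_iff_mem_zpowers.mpr ((hU' g).mp hg)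
      have hk' : (g : P ⧸ U) = t ^ (k % p) := by
        rw [← ht, pow_mod_orderOf]
        exact hk.symm
      rw [sum_eq_single_of_mem (k % p) (mem_range.mpr (Nat.mod_lt _ hp.out.pos)), if_pos hk']
      intro i hi hne
      rw [if_neg]
      intro hi'
      refine hne (pow_injOn_Iio_orderOf ?_ ?_ (hi'.symm.trans hk'))
      · rw [Set.mem_Iio, ht]; exact mem_range.mp hi
      · rw [Set.mem_Iio, ht]; exact Nat.mod_lt _ hp.out.pos
    · rw [coeff_eq_zero_of_mem_supp a.2.1 hg]
      exact (sum_eq_zero fun i _ => by simp).symm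
  have hp' : ∀ a i, ((part a i ^ p : alg F Q U') : MonoidAlgebra F P) ∈ supp F (U : Set P) :=
    fun a i => hT0 (dvd_mul_left p i) (hpow (hpart a i) p)
  by_cases hex : ∃ a : alg F Q U', ∃ j, ¬ p ∣ j ∧ χ₀ ⟨_, hp' a j, (part a j ^ p).2.2⟩ ≠ 0
  · obtain ⟨a₁, j, hj, hc⟩ := hex
    set a := part a₁ j with ha
    set c := χ₀ ⟨_, hp' a₁ j, (part a₁ j ^ p).2.2⟩ with hcdef
    have hroot : ∀ χ : {χ : alg F Q U' →ₐ[F] F // res hUU' χ = χ₀},
        χ.1 a ∈ (Polynomial.nthRoots p c).toFinset := by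
      intro χ
      rw [Multiset.mem_toFinset, Polynomial.mem_nthRoots hp.out.pos, ← map_pow,
        hsmall χ.1 χ.2 _ (hp' a₁ j)]
    refine (Nat.card_le_card_of_injective (fun χ => (⟨χ.1 a, hroot χ⟩ : (Polynomial.nthRoots p c).toFinset))
      ?_).trans ?_
    · intro χ χ' hχ
      have hχa : χ.1 a = χ'.1 a := congrArg Subtype.val hχ
      refine Subtype.ext (AlgHom.ext fun b => ?_)
      rw [hsum b, map_sum, map_sum]
      refine sum_congr rfl fun i _ => ?_
      obtain ⟨m, hm⟩ : ∃ m, p ∣ i + j * m := by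
        refine ⟨((-(i : ZMod p)) * (j : ZMod p)⁻¹).val, (ZMod.natCast_eq_zero_iff _ _).mp ?_⟩
        rw [Nat.cast_add, Nat.cast_mul, ZMod.natCast_zmod_val, mul_left_comm,
          mul_inv_cancel₀ (fun h => hj ((ZMod.natCast_eq_zero_iff _ _).mp h)), mul_one,
          add_neg_cancel]
      have hmem : ((part b i * a ^ m : alg F Q U') : MonoidAlgebra F P) ∈ supp F (U : Set P) :=
        hT0 hm (hmul (hpart b i) (hpow (hpart a₁ j) m))
      have h1 := hsmall χ.1 χ.2 _ hmem
      rw [← hsmall χ'.1 χ'.2 _ hmem, map_mul, map_mul, map_pow, map_pow, hχa] at h1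
      refine mul_right_cancel₀ (pow_ne_zero m fun h => hc ?_) h1
      rw [hcdef, ← hsmall χ'.1 χ'.2 _ (hp' a₁ j), map_pow, h, zero_pow hp.out.ne_zero]
    · rw [Nat.card_eq_fintype_card, Fintype.card_coe]
      exact (Multiset.toFinset_card_le _).trans (Polynomial.card_nthRoots p c)
  · push Not at hex
    haveI : Subsingleton {χ : alg F Q U' →ₐ[F] F // res hUU' χ = χ₀} := ⟨fun χ χ' => by
      refine Subtype.ext (AlgHom.ext fun b => ?_)
      rw [hsum b, map_sum, map_sum]
      refine sum_congr rfl fun i _ => ?_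
      by_cases hi : p ∣ i
      · rw [hsmall χ.1 χ.2 _ (hT0 hi (hpart b i)), hsmall χ'.1 χ'.2 _ (hT0 hi (hpart b i))]
      · have h0 : ∀ (χ : {χ : alg F Q U' →ₐ[F] F // res hUU' χ = χ₀}), χ.1 (part b i) = 0 :=
          fun χ => (pow_eq_zero_iff hp.out.ne_zero).mp (by
            rw [← map_pow, hsmall χ.1 χ.2 _ (hp' b i), hex b i hi])
        rw [h0, h0]⟩
    calc Nat.card {χ : alg F Q U' →ₐ[F] F // res hUU' χ = χ₀}
        ≤ Nat.card Unit := Nat.card_le_card_of_injective (fun _ => ()) fun a b _ => Subsingleton.elim a b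
      _ ≤ p := by rw [Nat.card_unique]; exact hp.out.one_lt.le

/-- No character of the centre of `F[Q]` has stabiliser `Q`. -/
theorem stab_ne (hF : (Nat.card P : F) ≠ 0) {p : ℕ} [hp : Fact p.Prime] (hP : IsPGroup p P)
    {Q : Subgroup P} [Q.Normal] (hQ1 : Q ≠ ⊥) (hQ2 : Q ≠ ⊤) (h : Cam Q)
    (χ : alg F Q Q →ₐ[F] F) : ∃ g ∉ Q, g • χ = χ := by
  classical
  haveI := Fintype.ofFinite P
  by_contra hcon
  push Not at hcon
  obtain ⟨g₀, -, hg₀⟩ := SetLike.exists_of_lt (lt_top_iff_ne_top.mpr hQ2)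
  obtain ⟨U, ⟨hUQ, hUn, hU⟩, hmax⟩ := (Set.toFinite {U : Subgroup P | ∃ hUQ : U ≤ Q,
      ∃ _ : U.Normal, ∃ g ∉ Q, g • res hUQ χ = res hUQ χ}).exists_maximal
    ⟨⊥, bot_le, inferInstance, g₀, hg₀, by
      refine AlgHom.ext fun a => ?_
      obtain ⟨c, hc⟩ : ∃ c : F, a = algebraMap F (alg F Q (⊥ : Subgroup P)) c := by
        refine ⟨(a : MonoidAlgebra F P).coeff 1, Subtype.ext ?_⟩
        apply MonoidAlgebra.coeff_injective
        ext g
        rw [SubalgebraClass.coe_algebraMap, Algebra.algebraMap_eq_smul_one]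
        by_cases hg : g = 1
        · subst hg; simp
        · rw [coeff_eq_zero_of_mem_supp a.2.1 (fun h => hg (Subgroup.mem_bot.mp h))]
          simp [MonoidAlgebra.one_def, Ne.symm hg]
      rw [hc, AlgHom.commutes, AlgHom.commutes]⟩
  haveI := hUn
  obtain ⟨g₁, hg₁Q, hg₁⟩ := hU
  have hUne : U ≠ Q := by
    rintro rfl
    exact hcon g₁ hg₁Q hg₁
  -- the next step
  haveI : (Q.map (QuotientGroup.mk' U)).Normal :=
    (inferInstance : Q.Normal).map _ (QuotientGroup.mk'_surjective _)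
  have hne : Q.map (QuotientGroup.mk' U) ≠ ⊥ := fun hb => hUne (le_antisymm hUQ fun q hq => by
    have : (q : P ⧸ U) ∈ Q.map (QuotientGroup.mk' U) := ⟨q, hq, rfl⟩
    rw [hb, Subgroup.mem_bot] at this
    exact (QuotientGroup.eq_one_iff q).mp this)
  have hqp := hP.to_quotient U
  obtain ⟨⟨t, ⟨t₀, ht₀, ht₀t⟩, htc⟩, ht⟩ := exists_prime_orderOf_dvd_card'
    (G := ↥(Q.map (QuotientGroup.mk' U) ⊓ Subgroup.center _)) p
    (PGroups.dvd_card_of_ne_bot hqp (PGroups.inf_center_ne_bot hqp hne))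
  replace ht : orderOf t = p := (Subgroup.orderOf_mk _ _).symm.trans ht
  set U' := (Subgroup.zpowers t).comap (QuotientGroup.mk' U) with hU'def
  haveI hU'n : U'.Normal := by
    haveI : (Subgroup.zpowers t).Normal := ⟨fun y hy g => by
      obtain ⟨k, rfl⟩ := Subgroup.mem_zpowers_iff.mp hy
      rw [((show Commute g t from Subgroup.mem_center_iff.mp htc g).zpow_right k).eq,
        mul_inv_cancel_right]
      exact hy⟩
    exact Subgroup.Normal.comap inferInstance _
  have hUU' : U ≤ U' := fun u hu => by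
    show (u : P ⧸ U) ∈ Subgroup.zpowers t
    rw [(QuotientGroup.eq_one_iff u).mpr hu]
    exact one_mem _
  have hU'Q : U' ≤ Q := fun g hg => by
    obtain ⟨k, hk⟩ := Subgroup.mem_zpowers_iff.mp (show (g : P ⧸ U) ∈ Subgroup.zpowers t from hg)
    rw [← ht₀t] at hk
    have h1 : ((t₀ ^ k : P) : P ⧸ U) = (g : P ⧸ U) := hk
    have h2 := QuotientGroup.eq.mp h1
    simpa using Q.mul_mem (Q.zpow_mem ht₀ k) (hUQ h2)
  have hU'stab : ∀ g : P, g • res hU'Q χ = res hU'Q χ → g ∈ Q := by
    intro g hg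
    by_contra hgQ
    have hle := hmax (show U' ∈ _ from ⟨hU'Q, hU'n, g, hgQ, hg⟩) hUU'
    have hmem : t₀ ∈ U' := by
      show (t₀ : P ⧸ U) ∈ Subgroup.zpowers t
      exact ht₀t ▸ Subgroup.mem_zpowers t
    have h1 : t = 1 := ht₀t ▸ (QuotientGroup.eq_one_iff t₀).mpr (hle hmem)
    rw [h1, orderOf_one] at ht
    exact hp.out.ne_one ht.symm
  -- the stabiliser at U has index p over Q
  set H := stabilizer P (res hUQ χ) with hH
  have hQH : Q ≤ H := fun q hq => smul_char_of_mem hq _
  have hQH' : stabilizer H (res hU'Q χ) = Q.subgroupOf H := by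
    ext g
    exact ⟨fun hg => hU'stab g hg, fun hg => smul_char_of_mem (show (g : P) ∈ Q from hg) _⟩
  have hidx : Nat.card H ≤ Nat.card Q * p := by
    haveI := Fintype.ofFinite H
    have h1 := MulAction.card_orbit_mul_card_stabilizer_eq_card_group H (res hU'Q χ)
    rw [← Nat.card_eq_fintype_card, ← Nat.card_eq_fintype_card, ← Nat.card_eq_fintype_card, hQH',
      Nat.card_congr (Subgroup.subgroupOfEquivOfLe hQH).toEquiv] at h1
    rw [← h1, mul_comm]
    refine Nat.mul_le_mul le_rfl ?_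
    refine le_trans ?_ (card_ext_le hUU' hU'Q ht (fun g => Subgroup.mem_center_iff.mp htc (g : P ⧸ U))
      (fun g => Iff.rfl) (res hUQ χ))
    refine Nat.card_le_card_of_injective (fun ψ => ⟨ψ.1, ?_⟩) fun a b hab =>
      Subtype.ext (Subtype.mk.inj hab)
    obtain ⟨⟨g, hg⟩, hψ⟩ := ψ.2
    rw [← hψ]
    show res hUU' (g • res hU'Q χ) = res hUQ χ
    rw [res_smul]
    exact hg
  -- an element of order p modulo Q in the stabiliser
  obtain ⟨x, hxH, hxQ, hxp⟩ : ∃ x ∈ H, x ∉ Q ∧ x ^ p ∈ Q := by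
    have hex : ∃ k, g₁ ^ p ^ k ∈ Q := by
      obtain ⟨k, hk⟩ := hP g₁
      exact ⟨k, hk ▸ Q.one_mem⟩
    obtain ⟨k, hk⟩ : ∃ k, Nat.find hex = k + 1 := by
      refine Nat.exists_eq_succ_of_ne_zero fun h0 => hg₁Q ?_
      have := Nat.find_spec hex
      rwa [h0, pow_zero, pow_one] at this
    refine ⟨g₁ ^ p ^ k, H.pow_mem hg₁ _, Nat.find_min hex (by omega), ?_⟩
    rw [← pow_mul, ← pow_succ, ← hk]
    exact Nat.find_spec hex
  have hord : orderOf (x : P ⧸ Q) = p := orderOf_eq_prime
    (by rw [← QuotientGroup.mk_pow, QuotientGroup.eq_one_iff]; exact hxp)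
    (fun h1 => hxQ ((QuotientGroup.eq_one_iff x).mp h1))
  have hHeq : (Subgroup.zpowers (x : P ⧸ Q)).comap (QuotientGroup.mk' Q) = H := by
    refine Subgroup.eq_of_le_of_card_ge (fun g hg => ?_) ?_
    · obtain ⟨k, hk⟩ := Subgroup.mem_zpowers_iff.mp
        (show (g : P ⧸ Q) ∈ Subgroup.zpowers (x : P ⧸ Q) from hg)
      have h1 : ((x ^ k : P) : P ⧸ Q) = (g : P ⧸ Q) := hk
      simpa using H.mul_mem (H.zpow_mem hxH k) (hQH (QuotientGroup.eq.mp h1))
    · rw [card_preimage, Nat.card_zpowers, hord]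
      exact hidx
  -- the centraliser bound
  set Cb := Subgroup.centralizer ({(x : P ⧸ Q)} : Set (P ⧸ Q)) with hCb
  have hC := h.card_centralizer hxQ
  have hlow : Nat.card (Q ⊓ Subgroup.centralizer ({x} : Set P) : Subgroup P) * p ≤ Nat.card Cb := by
    rw [← hC, ← Fintype.card_fin p, ← Nat.card_eq_fintype_card, ← Nat.card_prod]
    refine Nat.card_le_card_of_injective (fun w => (⟨(w.1 : P) * x ^ (w.2 : ℕ),
      Subgroup.mul_mem _ w.1.2.2 (Subgroup.pow_mem _
        (Subgroup.mem_centralizer_singleton_iff.mpr rfl) _)⟩ :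
          Subgroup.centralizer ({x} : Set P))) ?_
    intro w w' hww
    have h1 : (w.1 : P) * x ^ (w.2 : ℕ) = (w'.1 : P) * x ^ (w'.2 : ℕ) := congrArg Subtype.val hww
    have h2 : (x : P ⧸ Q) ^ (w.2 : ℕ) = (x : P ⧸ Q) ^ (w'.2 : ℕ) := by
      have h3 := congrArg (fun u : P => (u : P ⧸ Q)) h1
      simp only [QuotientGroup.mk_mul, QuotientGroup.mk_pow,
        (QuotientGroup.eq_one_iff (w.1 : P)).mpr w.1.2.1,
        (QuotientGroup.eq_one_iff (w'.1 : P)).mpr w'.1.2.1, one_mul] at h3
      exact h3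
    have h4 : (w.2 : ℕ) = w'.2 := pow_injOn_Iio_orderOf (by rw [Set.mem_Iio, hord]; exact w.2.2)
      (by rw [Set.mem_Iio, hord]; exact w'.2.2) h2
    rw [h4] at h1
    exact Prod.ext (Subtype.ext (mul_right_cancel h1)) (Fin.ext h4)
  have hfix := card_fixedBy F hF hP hUQ h hxQ hxp
  have hUle : Nat.card (U ⊓ Subgroup.centralizer ({x} : Set P) : Subgroup P) ≤
      Nat.card (Q ⊓ Subgroup.centralizer ({x} : Set P) : Subgroup P) :=
    Subgroup.card_le_of_le (inf_le_inf_right _ hUQ)
  by_cases hHtop : H = ⊤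
  · obtain ⟨z, hz, hz1⟩ := (Q ⊓ Subgroup.center P).bot_or_exists_ne_one.resolve_left
      (PGroups.inf_center_ne_bot hP hQ1)
    have h2 : 2 ≤ Nat.card (Q ⊓ Subgroup.centralizer ({x} : Set P) : Subgroup P) := by
      refine Subgroup.one_lt_card_iff_ne_bot _ |>.mpr fun hb => hz1 ?_
      have : z ∈ (Q ⊓ Subgroup.centralizer ({x} : Set P) : Subgroup P) :=
        ⟨hz.1, Subgroup.mem_centralizer_singleton_iff.mpr (Subgroup.mem_center_iff.mp hz.2 x).symm⟩
      rwa [hb, Subgroup.mem_bot] at this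
    have h3 : Nat.card (P ⧸ Q) = p := by
      have h4 := card_preimage (Subgroup.zpowers (x : P ⧸ Q))
      rw [hHeq, hHtop, Subgroup.card_top, Nat.card_zpowers, hord,
        Subgroup.card_eq_card_quotient_mul_card_subgroup Q, mul_comm] at h4
      exact Nat.eq_of_mul_eq_mul_left Nat.card_pos h4
    have h5 := Subgroup.card_le_card_group Cb
    have := hp.out.two_le
    nlinarith
  -- the orbit of `res χ` under the centraliser of `x` modulo Q
  set G' := Cb.comap (QuotientGroup.mk' Q) with hG'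
  haveI := Fintype.ofFinite G'
  have horb := MulAction.card_orbit_mul_card_stabilizer_eq_card_group G' (res hUQ χ)
  rw [← Nat.card_eq_fintype_card, ← Nat.card_eq_fintype_card, ← Nat.card_eq_fintype_card,
    card_preimage] at horb
  have hst : Nat.card (stabilizer G' (res hUQ χ)) ≤ Nat.card Q * p := by
    refine le_trans (Nat.card_le_card_of_injective (fun g => (⟨((g : G') : P), g.2⟩ : H))
      fun a b hab => Subtype.ext (Subtype.ext (congrArg Subtype.val hab :))) hidx
  have hone : ∃ ε : alg F Q U →ₐ[F] F, ∀ g : P, g • ε = ε := by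
    refine ⟨(MonoidAlgebra.lift F F P 1).comp (alg F Q U).val, fun g => AlgHom.ext fun a => ?_⟩
    rw [smul_char_apply]
    show MonoidAlgebra.lift F F P 1 (cg g⁻¹ (a : MonoidAlgebra F P)) = _
    rw [cg, map_mul, map_mul]
    simp [MonoidAlgebra.of_apply]
  obtain ⟨ε, hε⟩ := hone
  have hcount : Nat.card (orbit G' (res hUQ χ)) + 1 ≤ Nat.card (fixedBy (alg F Q U →ₐ[F] F) x) := by
    rw [Nat.card_coe_set_eq, Nat.card_coe_set_eq]
    have hnot : ε ∉ orbit G' (res hUQ χ) := by
      rintro ⟨g, hg⟩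
      refine hHtop ((Subgroup.eq_top_iff' H).mpr fun y => ?_)
      have h1 : res hUQ χ = ε := by
        have h2 : (g : P)⁻¹ • ε = res hUQ χ := by rw [← hg]; exact inv_smul_smul (g : P) _
        rw [← h2, hε]
      show y • res hUQ χ = res hUQ χ
      rw [h1]; exact hε y
    rw [← Set.ncard_insert_of_notMem hnot]
    refine Set.ncard_le_ncard (Set.insert_subset (hε x) ?_)
    rintro _ ⟨g, rfl⟩
    show x • ((g : P) • res hUQ χ) = (g : P) • res hUQ χ
    have hcomm : (x : P ⧸ Q) * ((g : P) : P ⧸ Q) = ((g : P) : P ⧸ Q) * x :=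
      (Subgroup.mem_centralizer_singleton_iff.mp
        (show ((g : P) : P ⧸ Q) ∈ Cb from g.2)).symm
    have hmem : ((g : P))⁻¹ * x * g ∈ H := by
      rw [← hHeq]
      show (((g : P)⁻¹ * x * g : P) : P ⧸ Q) ∈ Subgroup.zpowers (x : P ⧸ Q)
      simp only [QuotientGroup.mk_mul, QuotientGroup.mk_inv]
      rw [mul_assoc, hcomm, inv_mul_cancel_left]
      exact Subgroup.mem_zpowers _
    have h2 : ((g : P)⁻¹ * x * g) • res hUQ χ = res hUQ χ := hmem
    rw [← mul_smul, show x * (g : P) = (g : P) * ((g : P)⁻¹ * x * g) by group, mul_smul, h2]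
  have h1 : Nat.card Q * Nat.card Cb ≤
      Nat.card (orbit G' (res hUQ χ)) * (Nat.card Q * p) :=
    horb ▸ Nat.mul_le_mul le_rfl hst
  have h2 : Nat.card Cb ≤ Nat.card (orbit G' (res hUQ χ)) * p := by
    refine Nat.le_of_mul_le_mul_left ?_ (Nat.card_pos (α := Q))
    rwa [mul_left_comm] at h1
  have := hp.out.pos
  nlinarith

end CfsgLib.FgsC.CaminaKernel
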