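import Cfsg.Agent.Lib.FgsC.CaminaKernel.Scalar

/-!
The descent: if `Q` does not act on `W` by scalars, an element of `Q` central modulo the scalars
splits `W`, and this is impossible.
-/

set_option autoImplicit false
set_option linter.unusedSectionVars false
set_option linter.style.haveILetI false

namespace CfsgLib.FgsC.CaminaKernel

open Finset

variable {F V P : Type*} [Field F] [AddCommGroup V] [Module F V] [Group P]
  (ρ : Representation F P V)

theorem span_map_mem {A : Set P} {B : Set P} {s : Module.End F V}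
    (φ : Module.End F V →ₗ[F] Module.End F V) (hs : s ∈ Submodule.span F (ρ '' A))
    (h : ∀ a ∈ A, φ (ρ a) ∈ Submodule.span F (ρ '' B)) : φ s ∈ Submodule.span F (ρ '' B) := by
  induction hs using Submodule.span_induction with
  | mem x hx => obtain ⟨a, ha, rfl⟩ := hx; exact h a ha
  | zero => rw [map_zero]; exact Submodule.zero_mem _
  | add x y _ _ hx hy => rw [map_add]; exact Submodule.add_mem _ hx hy
  | smul c x _ hx => rw [map_smul]; exact Submodule.smul_mem _ c hx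

theorem span_inv {A : Set P} {s : Module.End F V} (hs : s ∈ Submodule.span F (ρ '' A))
    {W : Submodule F V} (h : ∀ a ∈ A, ∀ v ∈ W, ρ a v ∈ W) {v : V} (hv : v ∈ W) : s v ∈ W := by
  induction hs using Submodule.span_induction with
  | mem x hx => obtain ⟨a, ha, rfl⟩ := hx; exact h a ha v hv
  | zero => exact W.zero_mem
  | add x y _ _ hx hy => exact W.add_mem hx hy
  | smul c x _ hx => exact W.smul_mem c hx

/-- The scalar elements of `Q`. -/
def scalars (W : Submodule F V) (Q : Subgroup P) : Set P :=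
  {q | q ∈ Q ∧ ∃ a : F, ∀ v ∈ W, ρ q v = a • v}

theorem Cfg.sign [IsAlgClosed F] [Finite P] {p : ℕ} [hp : Fact p.Prime] (hP : IsPGroup p P)
    (hpF : (p : F) ≠ 0) : ∀ {H Q : Subgroup P} {W : Submodule F V}, Cfg ρ H Q W →
      p = 2 ∧ ∀ q ∈ Q, ∃ a : F, a * a = 1 ∧ ∀ v ∈ W, ρ q v = a • v := by
  classical
  suffices key : ∀ n, ∀ {H Q : Subgroup P} {W : Submodule F V}, Nat.card H ≤ n → Cfg ρ H Q W →
      p = 2 ∧ ∀ q ∈ Q, ∃ a : F, a * a = 1 ∧ ∀ v ∈ W, ρ q v = a • v from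
    fun {H Q W} c => key _ le_rfl c
  intro n
  induction n with
  | zero => intro H Q W h; exact absurd h (not_le.mpr Nat.card_pos)
  | succ n ih =>
  intro H Q W hcard c
  obtain ⟨v₀, hv₀, hv₀0⟩ := c.exists_ne
  by_cases hall : ∀ q ∈ Q, ∃ a : F, ∀ v ∈ W, ρ q v = a • v
  · exact base ρ hP hpF c hall
  exfalso
  -- the scalar subgroup and an element central modulo it
  let Zs : Subgroup P :=
    { carrier := scalars ρ W Q
      one_mem' := ⟨Q.one_mem, 1, fun v _ => by rw [rho_one, one_smul]⟩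
      mul_mem' := fun {x y} ⟨hx, a, ha⟩ ⟨hy, b, hb⟩ => ⟨Q.mul_mem hx hy, b * a, fun v hv => by
        rw [rho_mul, hb v hv, map_smul, ha v hv, smul_smul]⟩
      inv_mem' := fun {x} ⟨hx, a, ha⟩ => ⟨Q.inv_mem hx, a⁻¹, fun v hv => by
        have ha0 : a ≠ 0 := fun h => hv₀0 (by
          rw [← rho_inv_cancel ρ x v₀, ha v₀ hv₀, h, zero_smul, map_zero])
        have h1 := ha (ρ x⁻¹ v) (c.inv _ (H.inv_mem (c.le hx)) v hv)
        rw [rho_cancel_inv] at h1
        conv_rhs => rw [h1]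
        rw [smul_smul, inv_mul_cancel₀ ha0, one_smul]⟩ }
  have hZsn : ∀ h ∈ H, ∀ z ∈ Zs, h * z * h⁻¹ ∈ Zs := by
    rintro h hh z ⟨hz, a, ha⟩
    refine ⟨c.norm h hh z hz, a, fun v hv => ?_⟩
    rw [rho_mul, rho_mul, ha _ (c.inv _ (H.inv_mem hh) v hv), map_smul, rho_cancel_inv]
  haveI hZn : (Zs.subgroupOf H).Normal := ⟨fun z hz h => hZsn h h.2 _ hz⟩
  haveI hQn : (Q.subgroupOf H).Normal := ⟨fun z hz h => c.norm h h.2 _ hz⟩
  obtain ⟨e, heQ, heZ, hep, hec⟩ : ∃ e ∈ Q, e ∉ Zs ∧ e ^ p ∈ Zs ∧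
      ∀ h ∈ H, h * e * h⁻¹ * e⁻¹ ∈ Zs := by
    set π := QuotientGroup.mk' (Zs.subgroupOf H) with hπ
    haveI : ((Q.subgroupOf H).map π).Normal := hQn.map π (QuotientGroup.mk'_surjective _)
    have hne : (Q.subgroupOf H).map π ≠ ⊥ := by
      intro hb
      refine hall fun q hq => ?_
      have : π ⟨q, c.le hq⟩ ∈ (Q.subgroupOf H).map π := ⟨_, hq, rfl⟩
      rw [hb, Subgroup.mem_bot] at this
      exact ((QuotientGroup.eq_one_iff (⟨q, c.le hq⟩ : H)).mp this).2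
    have hqp := (hP.to_subgroup H).to_quotient (Zs.subgroupOf H)
    obtain ⟨t, ht⟩ := exists_prime_orderOf_dvd_card'
      (G := ↥((Q.subgroupOf H).map π ⊓ Subgroup.center _)) p
      (PGroups.dvd_card_of_ne_bot hqp (PGroups.inf_center_ne_bot hqp hne))
    obtain ⟨⟨e, he, het⟩, htc⟩ := t.2
    refine ⟨e, he, fun h => ?_, ?_, fun h hh => ?_⟩
    · have h1 : π e = 1 := (QuotientGroup.eq_one_iff e).mpr h
      rw [het, OneMemClass.coe_eq_one] at h1
      rw [h1, orderOf_one] at ht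
      exact hp.out.ne_one ht.symm
    · have h1 : π (e ^ p) = 1 := by
        rw [map_pow, het, ← SubmonoidClass.coe_pow, ← ht, pow_orderOf_eq_one, OneMemClass.coe_one]
      exact (QuotientGroup.eq_one_iff (e ^ p)).mp h1
    · have h1 : π ((⟨h, hh⟩ : H) * e * ⟨h, hh⟩⁻¹ * e⁻¹) = 1 := by
        rw [map_mul, map_mul, map_mul, map_inv, map_inv, het,
          Subgroup.mem_center_iff.mp htc (π ⟨h, hh⟩)]
        group
      exact (QuotientGroup.eq_one_iff ((⟨h, hh⟩ : H) * e * (⟨h, hh⟩ : H)⁻¹ * e⁻¹)).mp h1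
  have heH : e ∈ H := c.le heQ
  obtain ⟨μ, hμ⟩ := hep.2
  have hpow_inv : ∀ j : ℕ, ∀ v ∈ W, ρ (e ^ j) v ∈ W := fun j => c.inv _ (H.pow_mem heH j)
  have hμ0 : μ ≠ 0 := fun h => hv₀0 (by
    rw [← rho_inv_cancel ρ (e ^ p) v₀, hμ v₀ hv₀, h, zero_smul, map_zero])
  -- the relation `h e = γ e h`
  let R : P → F → Prop := fun h γ => ∀ v ∈ W, ρ h (ρ e v) = γ • ρ e (ρ h v)
  have hRmul : ∀ {a b : P} {α β : F}, a ∈ H → b ∈ H → R a α → R b β → R (a * b) (α * β) := by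
    intro a b α β ha hb hA hB v hv
    rw [rho_mul, hB v hv, map_smul, hA _ (c.inv b hb v hv), smul_smul, rho_mul, mul_comm]
  have hR1 : R 1 1 := fun v _ => by rw [rho_one, rho_one, one_smul]
  have hRpow : ∀ {a : P} {α : F}, a ∈ H → R a α → ∀ k : ℕ, R (a ^ k) (α ^ k) := by
    intro a α ha hA k
    induction k with
    | zero => rw [pow_zero, pow_zero]; exact hR1
    | succ k ih => rw [pow_succ, pow_succ]; exact hRmul (H.pow_mem ha k) ha ih hA
  have hRinv : ∀ {a : P} {α : F}, a ∈ H → α ≠ 0 → R a α → R a⁻¹ α⁻¹ := by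
    intro a α ha hα hA v hv
    have h1 := congrArg (ρ a⁻¹) (hA (ρ a⁻¹ v) (c.inv _ (H.inv_mem ha) v hv))
    rw [rho_inv_cancel, map_smul, rho_cancel_inv] at h1
    rw [h1, smul_smul, inv_mul_cancel₀ hα, one_smul]
  have hReig : ∀ {a : P} {α lam : F} {v : V}, v ∈ W → α ≠ 0 → R a α → ρ e v = lam • v →
      ρ e (ρ a v) = (α⁻¹ * lam) • ρ a v := by
    intro a α lam v hv hα hA hev
    have h1 := hA v hv
    rw [hev, map_smul] at h1
    rw [← smul_smul, h1, smul_smul, inv_mul_cancel₀ hα, one_smul]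
  have hγ : ∀ h ∈ H, ∃ γ : F, γ ^ p = 1 ∧ R h γ := by
    intro h hh
    obtain ⟨-, γ, hγ⟩ := hec h hh
    have hR : R h γ := fun v hv => by
      rw [← rho_mul, ← rho_mul]
      have h1 : h * e = h * e * h⁻¹ * e⁻¹ * (e * h) := by group
      rw [h1, rho_mul, hγ _ (c.inv _ (H.mul_mem heH hh) v hv)]
    refine ⟨γ, ?_, hR⟩
    have hk : ∀ k : ℕ, ∀ v ∈ W, ρ h (ρ (e ^ k) v) = γ ^ k • ρ (e ^ k) (ρ h v) := by
      intro k
      induction k with
      | zero => intro v _; rw [pow_zero, pow_zero, rho_one, rho_one, one_smul]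
      | succ k ih =>
        intro v hv
        rw [pow_succ e, rho_mul, ih _ (c.inv e heH v hv), hR v hv, map_smul, smul_smul, ← pow_succ,
          rho_mul]
    have h2 := hk p v₀ hv₀
    rw [hμ v₀ hv₀, map_smul, hμ _ (c.inv h hh v₀ hv₀), smul_smul] at h2
    have h3 := smul_left_injective F (fun h0 : ρ h v₀ = 0 => hv₀0 (by
      rw [← rho_inv_cancel ρ h v₀, h0, map_zero])) h2
    exact (mul_eq_right₀ hμ0).mp h3.symm
  obtain ⟨q, hq, ζ, hζp, hζ, hζ1⟩ : ∃ q ∈ Q, ∃ ζ : F, ζ ^ p = 1 ∧ R q ζ ∧ ζ ≠ 1 := by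
    by_contra hcon
    push Not at hcon
    refine heZ ⟨heQ, c.inner (ρ e) (Submodule.subset_span ⟨e, heQ, rfl⟩) fun q hq v hv => ?_⟩
    obtain ⟨γ, hγp, hR⟩ := hγ q (c.le hq)
    rw [hR v hv, hcon q hq γ hγp hR, one_smul]
  have hqH : q ∈ H := c.le hq
  have hζ0 : ζ ≠ 0 := fun h => by
    rw [h, zero_pow hp.out.ne_zero] at hζp
    exact zero_ne_one hζp
  have hprim : IsPrimitiveRoot ζ p := by
    rw [IsPrimitiveRoot.iff_orderOf]
    exact orderOf_eq_prime hζp hζ1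
  let M : Subgroup P :=
    { carrier := {h | h ∈ H ∧ R h 1}
      one_mem' := ⟨H.one_mem, hR1⟩
      mul_mem' := fun {x y} hx hy => ⟨H.mul_mem hx.1 hy.1, by simpa using hRmul hx.1 hy.1 hx.2 hy.2⟩
      inv_mem' := fun {x} hx => ⟨H.inv_mem hx.1, by simpa using hRinv hx.1 one_ne_zero hx.2⟩ }
  have hMH : M ≤ H := fun x hx => hx.1
  have hqi : ∀ i : ℕ, q ^ i ∈ H := fun i => H.pow_mem hqH i
  have hRi : ∀ i : ℕ, R (q ^ i) (ζ ^ i) := hRpow hqH hζ
  have hdec : ∀ h ∈ H, ∃ i < p, h * (q ^ i)⁻¹ ∈ M := by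
    intro h hh
    obtain ⟨γ, hγp, hR⟩ := hγ h hh
    obtain ⟨i, hi, rfl⟩ := hprim.eq_pow_of_pow_eq_one hγp
    exact ⟨i, hi, H.mul_mem hh (H.inv_mem (hqi i)), by
      simpa [hζ0] using hRmul hh (H.inv_mem (hqi i)) hR (hRinv (hqi i) (pow_ne_zero i hζ0) (hRi i))⟩
  have hqp : q ^ p ∈ M := ⟨hqi p, hζp ▸ hRi p⟩
  have hMnorm : ∀ i : ℕ, ∀ m ∈ M, (q ^ i)⁻¹ * m * q ^ i ∈ M := fun i m hm =>
    ⟨H.mul_mem (H.mul_mem (H.inv_mem (hqi i)) hm.1) (hqi i), by
      simpa [hζ0] using hRmul (H.mul_mem (H.inv_mem (hqi i)) hm.1) (hqi i)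
        (hRmul (H.inv_mem (hqi i)) hm.1 (hRinv (hqi i) (pow_ne_zero i hζ0) (hRi i)) hm.2) (hRi i)⟩
  set Q₀ := M ⊓ Q with hQ₀
  have heQ₀ : e ∈ Q₀ := ⟨⟨heH, fun v _ => (one_smul F _).symm⟩, heQ⟩
  have hqM : q ∉ M := fun h => by
    have h1 := h.2 v₀ hv₀
    rw [hζ v₀ hv₀, one_smul] at h1
    have h0 : ρ e (ρ q v₀) ≠ 0 := fun h0 => hv₀0 (by
      rw [← rho_inv_cancel ρ q v₀, ← rho_inv_cancel ρ e (ρ q v₀), h0, map_zero, map_zero])
    exact hζ1 (smul_left_injective F h0 (by simpa using h1))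
  obtain ⟨lam, hlam⟩ := IsAlgClosed.exists_pow_nat_eq μ hp.out.pos
  have hlam0 : lam ≠ 0 := fun h => hμ0 (by rw [← hlam, h, zero_pow hp.out.ne_zero])
  -- pick the eigenvalue so that its eigenspace is not zero
  let S : F → Module.End F V := fun ν =>
    (p : F)⁻¹ • ∑ j ∈ range p, (ν⁻¹) ^ j • ρ (e ^ j)
  have hSapp : ∀ ν v, S ν v = (p : F)⁻¹ • ∑ j ∈ range p, (ν⁻¹) ^ j • ρ (e ^ j) v := by
    intro ν v
    simp only [S, LinearMap.smul_apply, LinearMap.sum_apply]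
  have hSW : ∀ ν, ∀ v ∈ W, S ν v ∈ W := fun ν v hv => by
    rw [hSapp]
    exact W.smul_mem _ (W.sum_mem fun j _ => W.smul_mem _ (hpow_inv j v hv))
  have heig : ∀ {ν : F} {v : V}, ρ e v = ν • v → ∀ j : ℕ, ρ (e ^ j) v = ν ^ j • v := by
    intro ν v h j
    induction j with
    | zero => rw [pow_zero, pow_zero, rho_one, one_smul]
    | succ j ih => rw [pow_succ, rho_mul, h, map_smul, ih, smul_smul, ← pow_succ']
  have hSe : ∀ ν : F, ν ^ p = μ → ∀ v ∈ W, ρ e (S ν v) = ν • S ν v := by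
    intro ν hν v hv
    have hν0 : ν ≠ 0 := fun h => hμ0 (by rw [← hν, h, zero_pow hp.out.ne_zero])
    have hsh : ∑ j ∈ range p, (ν⁻¹) ^ (j + 1) • ρ (e ^ (j + 1)) v
        = ∑ j ∈ range p, (ν⁻¹) ^ j • ρ (e ^ j) v := by
      have h1 := Finset.sum_range_succ (fun j => (ν⁻¹) ^ j • ρ (e ^ j) v) p
      have hlast : (ν⁻¹) ^ p • ρ (e ^ p) v = v := by
        rw [hμ v hv, smul_smul, inv_pow, hν, inv_mul_cancel₀ hμ0, one_smul]
      rw [Finset.sum_range_succ' (fun j => (ν⁻¹) ^ j • ρ (e ^ j) v) p, hlast, pow_zero, pow_zero,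
        rho_one, one_smul] at h1
      exact add_right_cancel h1
    rw [hSapp, map_smul, map_sum, smul_comm ν]
    congr 1
    conv_rhs => rw [← hsh, smul_sum]
    refine sum_congr rfl fun j _ => ?_
    rw [map_smul, ← rho_mul, ← pow_succ', smul_smul, pow_succ' (ν⁻¹), ← mul_assoc,
      mul_inv_cancel₀ hν0, one_mul]
  obtain ⟨ν, hν, u₀, hu₀, hu₀0⟩ : ∃ ν : F, ν ^ p = μ ∧ ∃ u ∈ W, S ν u ≠ 0 := by
    by_contra hcon
    push Not at hcon
    have h0 : ∀ i ∈ range p, S (lam * ζ ^ i) v₀ = 0 := fun i _ => hcon _ (by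
      rw [mul_pow, hlam, ← pow_mul, mul_comm i, pow_mul, hζp, one_pow, mul_one]) _ hv₀
    have hsum := Finset.sum_eq_zero h0
    simp only [hSapp, ← smul_sum] at hsum
    rw [sum_comm, smul_eq_zero_iff_right (inv_ne_zero hpF), sum_eq_single_of_mem 0
      (mem_range.mpr hp.out.pos)] at hsum
    · simp only [pow_zero, rho_one, one_smul, sum_const, card_range] at hsum
      rw [← Nat.cast_smul_eq_nsmul F] at hsum
      exact hv₀0 ((smul_eq_zero.mp hsum).resolve_left hpF)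
    · intro j hj hj0
      rw [← sum_smul]
      have : ∑ i ∈ range p, ((lam * ζ ^ i)⁻¹) ^ j = 0 := by
        have h1 : ∀ i, ((lam * ζ ^ i)⁻¹) ^ j = (lam⁻¹) ^ j * ((ζ ^ j)⁻¹) ^ i := fun i => by
          rw [mul_inv, mul_pow, inv_pow, inv_pow, inv_pow, ← pow_mul, ← pow_mul, mul_comm i j]
        simp only [h1, ← mul_sum]
        refine mul_eq_zero_of_right _ ?_
        have hne : ζ ^ j ≠ 1 :=
          hprim.pow_ne_one_of_pos_of_lt hj0 (mem_range.mp hj)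
        rw [geom_sum_eq (fun h => hne (inv_eq_one.mp h)), inv_pow, ← pow_mul, mul_comm, pow_mul,
          hζp, one_pow, inv_one, sub_self, zero_div]
      rw [this, zero_smul]
  have hν0 : ν ≠ 0 := fun h => hμ0 (by rw [← hν, h, zero_pow hp.out.ne_zero])
  set E := S ν with hE
  let W₁ : Submodule F V :=
    { carrier := {v | v ∈ W ∧ ρ e v = ν • v}
      add_mem' := fun {x y} hx hy => ⟨W.add_mem hx.1 hy.1, by rw [map_add, hx.2, hy.2, smul_add]⟩
      zero_mem' := ⟨W.zero_mem, by simp⟩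
      smul_mem' := fun a {x} hx => ⟨W.smul_mem a hx.1, by rw [map_smul, hx.2, smul_comm]⟩ }
  have hW₁W : ∀ v ∈ W₁, v ∈ W := fun v hv => hv.1
  have hW₁inv : ∀ m ∈ M, ∀ v ∈ W₁, ρ m v ∈ W₁ := fun m hm v hv =>
    ⟨c.inv m hm.1 v hv.1, by simpa using hReig hv.1 one_ne_zero hm.2 hv.2⟩
  have hEW₁ : ∀ v ∈ W, E v ∈ W₁ := fun v hv => ⟨hSW ν v hv, hSe ν hν v hv⟩
  have hE1 : ∀ v ∈ W₁, E v = v := by
    intro v hv
    have h1 : ∀ j ∈ range p, (ν⁻¹) ^ j • ρ (e ^ j) v = v := fun j _ => by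
      rw [heig hv.2, smul_smul, ← mul_pow, inv_mul_cancel₀ hν0, one_pow, one_smul]
    rw [hE, hSapp, sum_congr rfl h1, sum_const, card_range, ← Nat.cast_smul_eq_nsmul F, smul_smul,
      inv_mul_cancel₀ hpF, one_smul]
  have hE0 : ∀ ω : F, ω ^ p = 1 → ω ≠ 1 → ∀ v, ρ e v = (ω * ν) • v → E v = 0 := by
    intro ω hω hω1 v hv
    have h1 : ∀ j ∈ range p, (ν⁻¹) ^ j • ρ (e ^ j) v = ω ^ j • v := fun j _ => by
      rw [heig hv, smul_smul, mul_pow, mul_left_comm, ← mul_pow, inv_mul_cancel₀ hν0, one_pow,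
        mul_one]
    rw [hE, hSapp, sum_congr rfl h1, ← sum_smul, geom_sum_eq hω1, hω, sub_self, zero_div,
      zero_smul, smul_zero]
  have hEc : ∀ m ∈ M, ∀ v ∈ W, E (ρ m v) = ρ m (E v) := by
    intro m hm v hv
    have hj : ∀ j : ℕ, ∀ v ∈ W, ρ m (ρ (e ^ j) v) = ρ (e ^ j) (ρ m v) := by
      intro j
      induction j with
      | zero => intro v _; rw [pow_zero, rho_one, rho_one]
      | succ j ih =>
        intro v hv
        rw [pow_succ, rho_mul, ih _ (c.inv e heH v hv), hm.2 v hv, one_smul, rho_mul]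
    rw [hE, hSapp, hSapp, map_smul, map_sum]
    refine congrArg _ (sum_congr rfl fun j _ => ?_)
    rw [map_smul, hj j v hv]
  have hEspan : E ∈ Submodule.span F (ρ '' (Q₀ : Set P)) := by
    rw [hE]
    exact Submodule.smul_mem _ _ (Submodule.sum_mem _ fun j _ => Submodule.smul_mem _ _
      (Submodule.subset_span ⟨e ^ j, Q₀.pow_mem heQ₀ j, rfl⟩))
  have hshift : ∀ i < p, i ≠ 0 → ∀ v ∈ W₁, E (ρ (q ^ i)⁻¹ v) = 0 := by
    intro i hi hi0 v hv
    refine hE0 (ζ ^ i) (by rw [← pow_mul, mul_comm, pow_mul, hζp, one_pow])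
      (hprim.pow_ne_one_of_pos_of_lt hi0 hi) _ ?_
    have h1 := hReig hv.1 (inv_ne_zero (pow_ne_zero i hζ0))
      (hRinv (hqi i) (pow_ne_zero i hζ0) (hRi i)) hv.2
    rwa [inv_inv] at h1
  have hshift' : ∀ i < p, i ≠ 0 → ∀ v ∈ W₁, E (ρ (q ^ i) v) = 0 := by
    intro i hi hi0 v hv
    refine hE0 ((ζ ^ i)⁻¹) (by rw [inv_pow, ← pow_mul, mul_comm, pow_mul, hζp, one_pow, inv_one])
      (fun h => hprim.pow_ne_one_of_pos_of_lt hi0 hi (inv_eq_one.mp h)) _
      (hReig hv.1 (pow_ne_zero i hζ0) (hRi i) hv.2)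
  -- the extension of an operator on W₁ to W
  let T : Module.End F V → Module.End F V := fun s =>
    ∑ i ∈ range p, ρ (q ^ i) * (s * E) * ρ ((q ^ i)⁻¹)
  have hTapp : ∀ s v, T s v = ∑ i ∈ range p, ρ (q ^ i) (s (E (ρ (q ^ i)⁻¹ v))) := by
    intro s v
    simp only [T, LinearMap.sum_apply, Module.End.mul_apply]
  have hTW₁ : ∀ s, ∀ v ∈ W₁, T s v = s v := by
    intro s v hv
    rw [hTapp, sum_eq_single_of_mem 0 (mem_range.mpr hp.out.pos)]
    · rw [pow_zero, inv_one, rho_one, rho_one, hE1 v hv]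
    · intro i hi hi0
      rw [hshift i (mem_range.mp hi) hi0 v hv, map_zero, map_zero]
  have hTcomm : ∀ (X : Subgroup P) (Y : Subgroup P), X ≤ M → Y ≤ H →
      (∀ i : ℕ, ∀ x ∈ X, (q ^ i)⁻¹ * x * q ^ i ∈ X) → q ^ p ∈ X →
      (∀ y ∈ Y, ∃ i : ℕ, y * (q ^ i)⁻¹ ∈ X) →
      ∀ s : Module.End F V, (∀ x ∈ X, ∀ v ∈ W₁, s (ρ x v) = ρ x (s v)) →
      ∀ y ∈ Y, ∀ v ∈ W, T s (ρ y v) = ρ y (T s v) := by
    intro X Y hXM hYH hXn hqX hY s hs y hy v hv
    have hX : ∀ x ∈ X, ∀ w ∈ W, T s (ρ x w) = ρ x (T s w) := by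
      intro x hx w hw
      rw [hTapp, hTapp, map_sum]
      refine sum_congr rfl fun i _ => ?_
      have hw' : ρ (q ^ i)⁻¹ w ∈ W := c.inv _ (H.inv_mem (hqi i)) w hw
      rw [← rho_mul, show (q ^ i)⁻¹ * x = ((q ^ i)⁻¹ * x * q ^ i) * (q ^ i)⁻¹ by group, rho_mul,
        hEc _ (hXM (hXn i x hx)) _ hw', hs _ (hXn i x hx) _ (hEW₁ _ hw'), ← rho_mul,
        ← rho_mul]
      congr 2
      group
    have hq1 : ∀ w ∈ W, T s (ρ q w) = ρ q (T s w) := by
      intro w hw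
      let f : ℕ → V := fun i => ρ (q ^ i) (s (E (ρ ((q ^ i)⁻¹ * q) w)))
      have hl : T s (ρ q w) = ∑ i ∈ range p, f i := by
        rw [hTapp]
        exact sum_congr rfl fun i _ => by simp only [f, ← rho_mul]
      have hr : ρ q (T s w) = ∑ i ∈ range p, f (i + 1) := by
        rw [hTapp, map_sum]
        refine sum_congr rfl fun i _ => ?_
        simp only [f]
        rw [← rho_mul, show (q ^ (i + 1))⁻¹ * q = (q ^ i)⁻¹ by rw [pow_succ']; group, pow_succ']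
      have hfp : f p = f 0 := by
        have hqw : ρ q w ∈ W := c.inv q hqH w hw
        have hx : (q ^ p)⁻¹ ∈ X := X.inv_mem hqX
        simp only [f]
        rw [rho_mul (a := (q ^ p)⁻¹), hEc _ (hXM hx) _ hqw, hs _ hx _ (hEW₁ _ hqw),
          rho_cancel_inv, pow_zero, inv_one, one_mul, rho_one]
      have h1 := Finset.sum_range_succ f p
      rw [Finset.sum_range_succ' f p, hfp] at h1
      rw [hl, hr]
      exact (add_right_cancel h1).symm
    have hqn : ∀ i : ℕ, ∀ w ∈ W, T s (ρ (q ^ i) w) = ρ (q ^ i) (T s w) := by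
      intro i
      induction i with
      | zero => intro w _; rw [pow_zero, rho_one, rho_one]
      | succ i ih =>
        intro w hw
        rw [pow_succ', rho_mul, hq1 _ (c.inv _ (hqi i) w hw), ih w hw, rho_mul]
    obtain ⟨i, hi⟩ := hY y hy
    rw [show y = y * (q ^ i)⁻¹ * q ^ i by group, rho_mul, hX _ hi _ (c.inv _ (hqi i) v hv),
      hqn i v hv, rho_mul (a := y * (q ^ i)⁻¹)]
  have hTspan : ∀ (A B : Set P), (∀ a ∈ A, ∀ i : ℕ, ∀ j : ℕ, q ^ i * (a * e ^ j) * (q ^ i)⁻¹ ∈ B) →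
      ∀ s ∈ Submodule.span F (ρ '' A), T s ∈ Submodule.span F (ρ '' B) := by
    intro A B hAB s hs
    refine Submodule.sum_mem _ fun i _ => ?_
    refine span_map_mem ρ ((LinearMap.mulRight F (ρ (q ^ i)⁻¹)).comp
      ((LinearMap.mulLeft F (ρ (q ^ i))).comp (LinearMap.mulRight F E))) hs fun a ha => ?_
    simp only [LinearMap.coe_comp, Function.comp_apply, LinearMap.mulRight_apply,
      LinearMap.mulLeft_apply, hE, S, mul_smul_comm, smul_mul_assoc, mul_sum, sum_mul]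
    refine Submodule.smul_mem _ _ (Submodule.sum_mem _ fun j _ => Submodule.smul_mem _ _
      (Submodule.subset_span ⟨q ^ i * (a * e ^ j) * (q ^ i)⁻¹, hAB a ha i j, ?_⟩))
    rw [map_mul, map_mul, map_mul]
  have hQ₀n : ∀ i : ℕ, ∀ x ∈ Q₀, (q ^ i)⁻¹ * x * q ^ i ∈ Q₀ := fun i x hx =>
    ⟨hMnorm i x hx.1, Q.mul_mem (Q.mul_mem (Q.inv_mem (Q.pow_mem hq i)) hx.2) (Q.pow_mem hq i)⟩
  have hdecQ : ∀ y ∈ Q, ∃ i : ℕ, y * (q ^ i)⁻¹ ∈ Q₀ := fun y hy => by
    obtain ⟨i, -, hi⟩ := hdec y (c.le hy)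
    exact ⟨i, hi, Q.mul_mem hy (Q.inv_mem (Q.pow_mem hq i))⟩
  have hqpQ₀ : q ^ p ∈ Q₀ := ⟨hqp, Q.pow_mem hq p⟩
  have c₁ : Cfg ρ M Q₀ W₁ :=
    { le := inf_le_left
      norm := fun h hh x hx => ⟨M.mul_mem (M.mul_mem hh hx.1) (M.inv_mem hh), c.norm h hh.1 x hx.2⟩
      exists_notMem := by
        obtain ⟨x, hx, hxQ⟩ := c.exists_notMem
        obtain ⟨i, -, hi⟩ := hdec x hx
        exact ⟨_, hi, fun h => hxQ (by simpa using Q.mul_mem h.2 (Q.pow_mem hq i))⟩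
      exists_ne := ⟨E u₀, hEW₁ u₀ hu₀, hu₀0⟩
      inv := hW₁inv
      fpf := fun x hx hxQ v hv h => c.fpf x hx.1 (fun h' => hxQ ⟨hx, h'⟩) v hv.1 h
      fix := by
        intro v hv hfix
        set u := ∑ i ∈ range p, ρ (q ^ i) v with hu
        have huW : u ∈ W := W.sum_mem fun i _ => c.inv _ (hqi i) v hv.1
        have hQ₀fix : ∀ x ∈ Q₀, ρ x u = u := fun x hx => by
          rw [hu, map_sum]
          refine sum_congr rfl fun i _ => ?_
          rw [← rho_mul, show x * q ^ i = q ^ i * ((q ^ i)⁻¹ * x * q ^ i) by group, rho_mul,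
            hfix _ (hQ₀n i x hx)]
        have hqfix : ρ q u = u := by
          have h1 := Finset.sum_range_succ (fun i => ρ (q ^ i) v) p
          rw [Finset.sum_range_succ' (fun i => ρ (q ^ i) v) p, hfix _ hqpQ₀, pow_zero,
            rho_one] at h1
          rw [hu, map_sum]
          conv_rhs => rw [← add_right_cancel h1]
          exact sum_congr rfl fun i _ => by rw [← rho_mul, ← pow_succ']
        have hu0 : u = 0 := c.fix u huW fun y hy => by
          obtain ⟨i, hi⟩ := hdecQ y hy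
          have hqn : ∀ i : ℕ, ρ (q ^ i) u = u := fun i => by
            induction i with
            | zero => rw [pow_zero, rho_one]
            | succ i ih => rw [pow_succ, rho_mul, hqfix, ih]
          rw [show y = y * (q ^ i)⁻¹ * q ^ i by group, rho_mul, hqn, hQ₀fix _ hi]
        have h2 : E u = v := by
          rw [hu, map_sum, sum_eq_single_of_mem 0 (mem_range.mpr hp.out.pos)]
          · rw [pow_zero, rho_one, hE1 v hv]
          · exact fun i hi hi0 => hshift' i (mem_range.mp hi) hi0 v hv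
        rw [← h2, hu0, map_zero]
      inner := by
        intro s hs hcomm
        obtain ⟨a, ha⟩ := c.inner (T s) (hTspan (Q₀ : Set P) (Q : Set P) (fun x hx i j =>
            Q.mul_mem (Q.mul_mem (Q.pow_mem hq i) (Q.mul_mem hx.2 (Q.pow_mem heQ j)))
              (Q.inv_mem (Q.pow_mem hq i))) s hs)
          (hTcomm Q₀ Q inf_le_left c.le hQ₀n hqpQ₀ hdecQ s hcomm)
        exact ⟨a, fun v hv => by rw [← hTW₁ s v hv, ha v hv.1]⟩
      outer := by
        intro s hs hcomm v hv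
        rw [← hTW₁ s v hv]
        refine c.outer (T s) (hTspan ((M : Set P) \ Q₀) ((H : Set P) \ Q) (fun x hx i j => ⟨H.mul_mem (H.mul_mem (hqi i)
            (H.mul_mem hx.1.1 (H.pow_mem heH j))) (H.inv_mem (hqi i)), fun h => hx.2 (show x ∈ Q₀ from ⟨hx.1, ?_⟩)⟩)
          s hs) (hTcomm M H le_rfl le_rfl hMnorm hqp
            (fun y hy => by obtain ⟨i, -, hi⟩ := hdec y hy; exact ⟨i, hi⟩) s hcomm) v hv.1
        have h1 := Q.mul_mem (Q.mul_mem (Q.inv_mem (Q.pow_mem hq i)) h) (Q.pow_mem hq i)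
        exact (Subgroup.mul_mem_cancel_right Q (Q.pow_mem heQ j)).mp (by simpa [mul_assoc] using h1) }
  have hlt : Nat.card M ≤ n := by
    have hne : M ≠ H := fun h => hqM (h.symm ▸ hqH)
    have h1 : Nat.card M ≠ Nat.card H := fun h =>
      hne (Subgroup.eq_of_le_of_card_ge hMH h.ge)
    have h2 := Subgroup.card_le_of_le hMH
    omega
  obtain ⟨rfl, hsign⟩ := ih hlt c₁
  -- p = 2: a product outside Q with square 1 on W₁
  obtain ⟨y, hyM, hyQ⟩ := c₁.exists_notMem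
  obtain ⟨k, hk⟩ := hP y
  obtain ⟨x, hxM, hxQ₀, hx2⟩ : ∃ x ∈ M, x ∉ Q₀ ∧ x ^ 2 ∈ Q₀ := by
    have hex : ∃ j, y ^ 2 ^ j ∈ Q₀ := ⟨k, hk ▸ Q₀.one_mem⟩
    obtain ⟨j, hj⟩ : ∃ j, Nat.find hex = j + 1 := by
      refine Nat.exists_eq_succ_of_ne_zero fun h0 => hyQ ?_
      have := Nat.find_spec hex
      rwa [h0, pow_zero, pow_one] at this
    refine ⟨y ^ 2 ^ j, M.pow_mem hyM _, Nat.find_min hex (by omega), ?_⟩
    rw [← pow_mul, ← pow_succ, ← hj]
    exact Nat.find_spec hex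
  have hm : q * x * (q * x) ∈ Q₀ := by
    refine ⟨⟨H.mul_mem (H.mul_mem hqH hxM.1) (H.mul_mem hqH hxM.1), ?_⟩, ?_⟩
    · have h1 := hRmul (H.mul_mem hqH hxM.1) (H.mul_mem hqH hxM.1) (hRmul hqH hxM.1 hζ hxM.2)
        (hRmul hqH hxM.1 hζ hxM.2)
      rw [mul_one, show ζ * ζ = 1 by rw [← pow_two]; exact hζp] at h1
      exact h1
    · have h1 : q * x * (q * x) = q * (x * q * x⁻¹) * x ^ 2 := by group
      rw [h1]
      exact Q.mul_mem (Q.mul_mem hq (c.norm x hxM.1 q hq)) hx2.2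
  obtain ⟨ε, hε, hεv⟩ := hsign _ hm
  obtain ⟨lam', hlam2, hlamv⟩ := hsign e heQ₀
  have hw0 : E u₀ ∈ W₁ := hEW₁ u₀ hu₀
  have hνν : ν * ν = 1 := by
    have h1 := hlamv _ hw0
    rw [hw0.2] at h1
    rw [show ν = lam' from smul_left_injective F hu₀0 h1, hlam2]
  have hζ2 : ζ = -1 := by
    rcases mul_self_eq_one_iff.mp (show ζ * ζ = 1 by rw [← pow_two]; exact hζp) with h | h
    · exact absurd h hζ1
    · exact h
  have hgx : q * x ∉ Q := fun h => hxQ₀ ⟨hxM, (Subgroup.mul_mem_cancel_left Q hq).mp h⟩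
  have hEq : ∀ v ∈ W₁, E (ρ q v) = 0 := fun v hv => by
    have h1 := hshift' 1 hp.out.one_lt one_ne_zero v hv
    rwa [pow_one] at h1
  have hfin : ∀ g : P, g ∈ H → g ∉ Q → ρ g (ρ g (E u₀)) = E u₀ → E (ρ g (E u₀)) = 0 → False := by
    intro g hgH hgQ hgg hEg
    have hu : E u₀ + ρ g (E u₀) = 0 := c.fpf g hgH hgQ _
      (W.add_mem hw0.1 (c.inv g hgH _ hw0.1)) (by rw [map_add, hgg, add_comm])
    have h1 := congrArg E hu
    rw [map_add, hE1 _ hw0, hEg, add_zero, map_zero] at h1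
    exact hu₀0 h1
  rcases mul_self_eq_one_iff.mp hε with h | h
  · refine hfin (q * x) (H.mul_mem hqH hxM.1) hgx ?_ ?_
    · rw [← rho_mul, hεv _ hw0, h, one_smul]
    · rw [rho_mul]; exact hEq _ (hW₁inv x hxM _ hw0)
  · refine hfin (q * x * e) (H.mul_mem (H.mul_mem hqH hxM.1) heH)
      (fun h' => hgx ((Subgroup.mul_mem_cancel_right Q heQ).mp h')) ?_ ?_
    · have hxw : ρ x (E u₀) ∈ W₁ := hW₁inv x hxM _ hw0
      have h1 : ρ e (ρ q (ρ x (E u₀))) = (ζ⁻¹ * ν) • ρ q (ρ x (E u₀)) :=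
        hReig hxw.1 hζ0 hζ hxw.2
      calc ρ (q * x * e) (ρ (q * x * e) (E u₀))
          = ρ (q * x) (ρ e (ρ (q * x) (ρ e (E u₀)))) := by
            rw [rho_mul ρ (q * x) e, rho_mul ρ (q * x) e]
        _ = (ν * (ζ⁻¹ * ν)) • ρ (q * x) (ρ (q * x) (E u₀)) := by
            rw [hw0.2, map_smul, map_smul, rho_mul ρ q x (E u₀), h1, map_smul, map_smul, smul_smul]
        _ = E u₀ := by
            rw [← rho_mul, hεv _ hw0, h, hζ2, smul_smul]
            norm_num [hνν]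
    · rw [rho_mul, hw0.2, map_smul, map_smul, rho_mul, hEq _ (hW₁inv x hxM _ hw0), smul_zero]

end CfsgLib.FgsC.CaminaKernel
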