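import Mathlib

/-!
The algebra of `D`-invariant elements of a group algebra supported on a normal subgroup, and its
characters over an algebraically closed field.
-/

set_option autoImplicit false
set_option linter.unusedSectionVars false
set_option linter.style.haveILetI false

namespace CfsgLib.FgsC.CaminaKernel

open Finset MonoidAlgebra

variable (F : Type*) {P : Type*} [Field F] [Group P]

/-- The elements supported on `T`. -/
noncomputable def supp (T : Set P) : Submodule F (MonoidAlgebra F P) :=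
  Submodule.span F (MonoidAlgebra.of F P '' T)

variable {F}

theorem of_mem_supp {T : Set P} {g : P} (h : g ∈ T) : MonoidAlgebra.of F P g ∈ supp F T :=
  Submodule.subset_span ⟨g, h, rfl⟩

theorem supp_mono {T T' : Set P} (h : T ⊆ T') : supp F T ≤ supp F T' :=
  Submodule.span_mono (Set.image_mono h)

theorem mul_mem_supp {T₁ T₂ T₃ : Set P} (h : ∀ a ∈ T₁, ∀ b ∈ T₂, a * b ∈ T₃)
    {x y : MonoidAlgebra F P} (hx : x ∈ supp F T₁) (hy : y ∈ supp F T₂) : x * y ∈ supp F T₃ := by
  induction hx using Submodule.span_induction with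
  | mem x hx =>
    obtain ⟨a, ha, rfl⟩ := hx
    induction hy using Submodule.span_induction with
    | mem y hy => obtain ⟨b, hb, rfl⟩ := hy; rw [← map_mul]; exact of_mem_supp (h a ha b hb)
    | zero => rw [mul_zero]; exact Submodule.zero_mem _
    | add x y _ _ hx hy => rw [mul_add]; exact Submodule.add_mem _ hx hy
    | smul c x _ hx => rw [mul_smul_comm]; exact Submodule.smul_mem _ c hx
  | zero => rw [zero_mul]; exact Submodule.zero_mem _
  | add x z _ _ hx hz => rw [add_mul]; exact Submodule.add_mem _ hx hz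
  | smul c x _ hx => rw [smul_mul_assoc]; exact Submodule.smul_mem _ c hx

theorem coeff_eq_zero_of_mem_supp {T : Set P} {a : MonoidAlgebra F P} (ha : a ∈ supp F T) {g : P}
    (hg : g ∉ T) : a.coeff g = 0 := by
  classical
  induction ha using Submodule.span_induction with
  | mem x hx =>
    obtain ⟨b, hb, rfl⟩ := hx
    simp [MonoidAlgebra.of_apply, show b ≠ g from fun h => hg (h ▸ hb)]
  | zero => simp
  | add x y _ _ hx hy => simp [hx, hy]
  | smul c x _ hx => simp [hx]

variable [Finite P]

variable (F) in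
/-- The element with coefficient function `f`. -/
noncomputable def el : (P → F) →ₗ[F] MonoidAlgebra F P where
  toFun f := ∑ g ∈ (Set.finite_univ (α := P)).toFinset, f g • MonoidAlgebra.of F P g
  map_add' f f' := by simp [add_smul, sum_add_distrib]
  map_smul' c f := by simp [smul_sum, mul_smul]

theorem coeff_el (f : P → F) (g : P) : (el F f).coeff g = f g := by
  classical
  show (∑ h ∈ (Set.finite_univ (α := P)).toFinset, f h • MonoidAlgebra.of F P h).coeff g = f g
  rw [MonoidAlgebra.coeff_sum, Finsupp.finsetSum_apply, sum_eq_single_of_mem g (by simp)]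
  · simp [MonoidAlgebra.of_apply]
  · intro h _ hne
    simp [MonoidAlgebra.of_apply, hne]

theorem el_coeff (a : MonoidAlgebra F P) : el F (fun g => a.coeff g) = a := by
  apply MonoidAlgebra.coeff_injective
  ext g
  exact coeff_el _ g

theorem mem_supp_of_coeff {T : Set P} {a : MonoidAlgebra F P}
    (h : ∀ g, g ∉ T → a.coeff g = 0) : a ∈ supp F T := by
  rw [← el_coeff a]
  refine Submodule.sum_mem _ fun g _ => ?_
  by_cases hg : g ∈ T
  · exact Submodule.smul_mem _ _ (of_mem_supp hg)
  · simp [h g hg]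

/-- Conjugation in the group algebra. -/
noncomputable def cg (g : P) (a : MonoidAlgebra F P) : MonoidAlgebra F P :=
  MonoidAlgebra.of F P g * a * MonoidAlgebra.of F P g⁻¹

theorem of_mul_inv (g : P) : MonoidAlgebra.of F P g * MonoidAlgebra.of F P g⁻¹ = 1 := by
  rw [← map_mul, mul_inv_cancel, map_one]

theorem of_inv_mul (g : P) : MonoidAlgebra.of F P g⁻¹ * MonoidAlgebra.of F P g = 1 := by
  rw [← map_mul, inv_mul_cancel, map_one]

theorem cg_mul (g : P) (a b : MonoidAlgebra F P) : cg g (a * b) = cg g a * cg g b := by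
  simp only [cg]
  calc _ = MonoidAlgebra.of F P g * a * (MonoidAlgebra.of F P g⁻¹ * MonoidAlgebra.of F P g) * b *
          MonoidAlgebra.of F P g⁻¹ := by rw [of_inv_mul]; simp [mul_assoc]
    _ = _ := by simp only [mul_assoc]

theorem cg_cg (g h : P) (a : MonoidAlgebra F P) : cg g (cg h a) = cg (g * h) a := by
  simp only [cg, mul_inv_rev, map_mul, mul_assoc]

theorem cg_one (a : MonoidAlgebra F P) : cg 1 a = a := by simp [cg, map_one]

theorem cg_of (g h : P) : cg g (MonoidAlgebra.of F P h) = MonoidAlgebra.of F P (g * h * g⁻¹) := by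
  simp only [cg, ← map_mul]

theorem cg_mem_supp {T T' : Set P} {g : P} (h : ∀ t ∈ T, g * t * g⁻¹ ∈ T')
    {a : MonoidAlgebra F P} (ha : a ∈ supp F T) : cg g a ∈ supp F T' :=
  mul_mem_supp (T₁ := {x | ∃ t ∈ T, x = g * t}) (T₂ := {g⁻¹})
    (fun x ⟨t, ht, hx⟩ b hb => by rw [hx, Set.mem_singleton_iff.mp hb]; exact h t ht)
    (mul_mem_supp (T₁ := {g}) (T₂ := T) (T₃ := {x | ∃ t ∈ T, x = g * t})
      (fun x hx b hb => ⟨b, hb, by rw [Set.mem_singleton_iff.mp hx]⟩)
      (of_mem_supp rfl) ha) (of_mem_supp rfl)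

theorem coeff_cg (g : P) (a : MonoidAlgebra F P) (h : P) :
    (cg g a).coeff h = a.coeff (g⁻¹ * h * g) := by
  classical
  induction a using MonoidAlgebra.induction_linear with
  | zero => simp [cg]
  | add x y hx hy =>
    have : cg g (x + y) = cg g x + cg g y := by simp [cg, mul_add, add_mul]
    simp [this, hx, hy]
  | single m r =>
    have : cg g (single m r) = single (g * m * g⁻¹) r := by
      simp [cg, MonoidAlgebra.of_apply, mul_assoc]
    rw [this]
    simp only [coeff_single, Finsupp.single_apply]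
    refine if_congr ⟨fun h1 => ?_, fun h1 => ?_⟩ rfl rfl
    · rw [← h1]; group
    · rw [h1]; group

theorem cg_eq_iff (g : P) (a : MonoidAlgebra F P) :
    cg g a = a ↔ Commute (MonoidAlgebra.of F P g) a := by
  constructor
  · intro h
    show MonoidAlgebra.of F P g * a = a * MonoidAlgebra.of F P g
    conv_rhs => rw [← h]
    simp only [cg, mul_assoc, of_inv_mul, mul_one]
  · intro h
    rw [cg, h.eq, mul_assoc, of_mul_inv, mul_one]

variable (F) in
/-- The subalgebra of elements supported on `U` commuting with `D`. -/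
noncomputable def alg (D U : Subgroup P) : Subalgebra F (MonoidAlgebra F P) where
  carrier := {a | a ∈ supp F (U : Set P) ∧ ∀ d ∈ D, cg d a = a}
  mul_mem' := fun {a b} ha hb => ⟨mul_mem_supp (fun x hx y hy => U.mul_mem hx hy) ha.1 hb.1,
    fun d hd => by rw [cg_mul, ha.2 d hd, hb.2 d hd]⟩
  add_mem' := fun {a b} ha hb => ⟨Submodule.add_mem _ ha.1 hb.1, fun d hd => by
    have : cg d (a + b) = cg d a + cg d b := by simp [cg, mul_add, add_mul]
    rw [this, ha.2 d hd, hb.2 d hd]⟩
  one_mem' := ⟨by rw [← map_one (MonoidAlgebra.of F P)]; exact of_mem_supp U.one_mem,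
    fun d _ => by simp only [cg, mul_one, of_mul_inv]⟩
  zero_mem' := ⟨Submodule.zero_mem _, fun d _ => by simp [cg]⟩
  algebraMap_mem' := fun c => ⟨by
      rw [Algebra.algebraMap_eq_smul_one, ← map_one (MonoidAlgebra.of F P)]
      exact Submodule.smul_mem _ _ (of_mem_supp U.one_mem),
    fun d _ => by
      simp only [cg, Algebra.algebraMap_eq_smul_one, mul_smul_comm, smul_mul_assoc, mul_one,
        of_mul_inv]⟩

theorem mem_alg {D U : Subgroup P} {a : MonoidAlgebra F P} :
    a ∈ alg F D U ↔ a ∈ supp F (U : Set P) ∧ ∀ d ∈ D, cg d a = a := Iff.rfl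

theorem alg_mono {D U U' : Subgroup P} (h : U ≤ U') : alg F D U ≤ alg F D U' :=
  fun _ ha => ⟨supp_mono h ha.1, ha.2⟩

theorem commute_supp {D : Subgroup P} {a b : MonoidAlgebra F P} (ha : a ∈ supp F (D : Set P))
    (hb : ∀ d ∈ D, cg d b = b) : a * b = b * a := by
  induction ha using Submodule.span_induction with
  | mem x hx => obtain ⟨d, hd, rfl⟩ := hx; exact ((cg_eq_iff d b).mp (hb d hd)).eq
  | zero => simp
  | add x y _ _ hx hy => rw [add_mul, mul_add, hx, hy]
  | smul c x _ hx => rw [smul_mul_assoc, mul_smul_comm, hx]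

/-- A nilpotent element of the algebra is zero. -/
theorem eq_zero_of_isNilpotent {D U : Subgroup P} (hUD : U ≤ D) (hF : (Nat.card P : F) ≠ 0)
    {a : MonoidAlgebra F P} (ha : a ∈ alg F D U) (hn : IsNilpotent a) : a = 0 := by
  classical
  haveI := Fintype.ofFinite P
  apply MonoidAlgebra.coeff_injective
  ext g
  simp only [coeff_zero, Finsupp.coe_zero, Pi.zero_apply]
  by_cases hg : g ∈ U
  swap
  · exact coeff_eq_zero_of_mem_supp ha.1 hg
  have hc : Commute a (MonoidAlgebra.of F P g⁻¹) :=
    ((cg_eq_iff _ a).mp (ha.2 _ (hUD (U.inv_mem hg)))).symm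
  set b := a * MonoidAlgebra.of F P g⁻¹ with hb
  have hbn : IsNilpotent (LinearMap.mulLeft F b) := by
    obtain ⟨k, hk⟩ := hc.isNilpotent_mul_right hn
    exact ⟨k, by rw [LinearMap.pow_mulLeft, hk, LinearMap.mulLeft_zero_eq_zero]⟩
  have htr := (LinearMap.isNilpotent_trace_of_isNilpotent hbn).eq_zero
  have hdiag : ∀ h : P, (b * MonoidAlgebra.of F P h).coeff h = a.coeff g := by
    intro h
    rw [hb, mul_assoc, ← map_mul, MonoidAlgebra.of_apply,
      MonoidAlgebra.coeff_mul_single_eq_coeff_mul (m₁ := h) g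
        (fun m _ => by rw [← mul_assoc]; exact ⟨fun h' => by
          have := congrArg (fun u => u * h⁻¹ * g) h'
          simpa [mul_assoc] using this, fun h' => by rw [h']; group⟩), mul_one]
  rw [LinearMap.trace_eq_matrix_trace F (MonoidAlgebra.basis P F), Matrix.trace] at htr
  simp only [Matrix.diag, LinearMap.toMatrix_apply] at htr
  have e : ∀ h : P, ((MonoidAlgebra.basis P F).repr
      (LinearMap.mulLeft F b ((MonoidAlgebra.basis P F) h))) h = a.coeff g := by
    intro h
    rw [← hdiag h]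
    rfl
  simp only [e, sum_const, card_univ, ← Nat.card_eq_fintype_card, nsmul_eq_mul] at htr
  exact (mul_eq_zero.mp htr).resolve_left hF

/-- The algebra as a commutative ring. -/
noncomputable abbrev algCommRing {D U : Subgroup P} (hUD : U ≤ D) : CommRing (alg F D U) :=
  { (inferInstance : Ring (alg F D U)) with
    mul_comm := fun a b => Subtype.ext (commute_supp (supp_mono hUD a.2.1) b.2.2) }

/-- Characters separate the algebra. -/
theorem exists_char_ne_zero [IsAlgClosed F] {D U : Subgroup P} (hUD : U ≤ D)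
    (hF : (Nat.card P : F) ≠ 0) (a : alg F D U) (ha : a ≠ 0) :
    ∃ χ : alg F D U →ₐ[F] F, χ a ≠ 0 := by
  letI := algCommRing (F := F) hUD
  haveI : IsArtinianRing (alg F D U) := IsArtinianRing.of_finite F _
  have hnil : a ∉ nilradical (alg F D U) := fun h => by
    obtain ⟨k, hk⟩ := mem_nilradical.mp h
    exact ha (Subtype.ext (eq_zero_of_isNilpotent hUD hF a.2 ⟨k, by
      rw [← SubmonoidClass.coe_pow, hk]; rfl⟩))
  rw [nilradical_eq_sInf, Submodule.mem_sInf] at hnil
  push Not at hnil
  obtain ⟨I, hI, haI⟩ := hnil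
  haveI : Ideal.IsPrime I := hI
  haveI : Module.Finite F (alg F D U ⧸ I) :=
    Module.Finite.of_surjective (Ideal.Quotient.mkₐ F I).toLinearMap Ideal.Quotient.mk_surjective
  have hbij : Function.Bijective (Algebra.ofId F (alg F D U ⧸ I)) :=
    IsAlgClosed.algebraMap_bijective_of_isIntegral
  refine ⟨(AlgEquiv.ofBijective (Algebra.ofId F _) hbij).symm.toAlgHom.comp
    (Ideal.Quotient.mkₐ F I), fun h => haI ?_⟩
  rw [AlgHom.comp_apply] at h
  have h1 := (map_eq_zero_iff _ (AlgEquiv.ofBijective (Algebra.ofId F _) hbij).symm.injective).mp h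
  rwa [Ideal.Quotient.mkₐ_eq_mk, Ideal.Quotient.eq_zero_iff_mem] at h1

/-- The Gelfand map. -/
noncomputable def gelfand (D U : Subgroup P) :
    alg F D U →ₗ[F] ((alg F D U →ₐ[F] F) → F) where
  toFun a χ := χ a
  map_add' a b := by ext χ; simp
  map_smul' c a := by ext χ; simp

theorem gelfand_bijective [IsAlgClosed F] {D U : Subgroup P} (hUD : U ≤ D)
    (hF : (Nat.card P : F) ≠ 0) : Function.Bijective (gelfand (F := F) D U) := by
  classical
  haveI := Fintype.ofFinite (alg F D U →ₐ[F] F)
  refine ⟨(injective_iff_map_eq_zero _).mpr fun a ha => ?_, fun f => ?_⟩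
  · by_contra ha0
    obtain ⟨χ, hχ⟩ := exists_char_ne_zero hUD hF a ha0
    exact hχ (congrFun ha χ)
  letI := algCommRing (F := F) hUD
  have hdelta : ∀ χ : alg F D U →ₐ[F] F, ∃ a, ∀ ψ, gelfand D U a ψ = if ψ = χ then 1 else 0 := by
    intro χ
    have hsep : ∀ ψ, ψ ≠ χ → ∃ a, χ a = 1 ∧ ψ a = 0 := by
      intro ψ hψ
      obtain ⟨a, ha⟩ := DFunLike.ne_iff.mp hψ
      refine ⟨(χ a - ψ a)⁻¹ • (a - algebraMap F _ (ψ a)), ?_, ?_⟩
      · rw [map_smul, map_sub, AlgHom.commutes, smul_eq_mul]
        exact inv_mul_cancel₀ (sub_ne_zero.mpr (Ne.symm ha))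
      · rw [map_smul, map_sub, AlgHom.commutes]; simp
    choose! g hg using hsep
    refine ⟨∏ ψ ∈ univ.erase χ, g ψ, fun ψ => ?_⟩
    show ψ (∏ φ ∈ univ.erase χ, g φ) = _
    rw [map_prod]
    split
    · next h => subst h; exact prod_eq_one fun φ hφ => (hg φ (ne_of_mem_erase hφ)).1
    · next h => exact prod_eq_zero (mem_erase.mpr ⟨h, mem_univ ψ⟩) (hg ψ h).2
  choose d hd using hdelta
  refine ⟨∑ χ, f χ • d χ, funext fun ψ => ?_⟩
  rw [map_sum, Finset.sum_apply, sum_eq_single_of_mem ψ (mem_univ ψ)]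
  · rw [map_smul, Pi.smul_apply, hd, if_pos rfl, smul_eq_mul, mul_one]
  · intro χ _ hne
    rw [map_smul, Pi.smul_apply, hd, if_neg (Ne.symm hne), smul_zero]

theorem cg_mem_alg {D U : Subgroup P} [D.Normal] [U.Normal] (g : P) {a : MonoidAlgebra F P}
    (ha : a ∈ alg F D U) : cg g a ∈ alg F D U := by
  refine mem_alg.mpr ⟨cg_mem_supp (fun t ht => (inferInstance : U.Normal).conj_mem t ht g)
    (mem_alg.mp ha).1, fun d hd => ?_⟩
  rw [cg_cg, show d * g = g * (g⁻¹ * d * g) by group, ← cg_cg, (mem_alg.mp ha).2 _ (by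
    simpa using (inferInstance : D.Normal).conj_mem d hd g⁻¹)]

/-- Conjugation as an algebra endomorphism of the group algebra. -/
noncomputable def cgHom (g : P) : MonoidAlgebra F P →ₐ[F] MonoidAlgebra F P where
  toFun a := cg g a
  map_one' := by simp only [cg, mul_one, of_mul_inv]
  map_mul' a b := cg_mul g a b
  map_zero' := by simp [cg]
  map_add' a b := by simp [cg, mul_add, add_mul]
  commutes' c := by
    simp only [cg, Algebra.algebraMap_eq_smul_one, mul_smul_comm, smul_mul_assoc, mul_one,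
      of_mul_inv]

/-- Conjugation on the algebra, for normal `U` and `D`. -/
noncomputable def conjA {D U : Subgroup P} [D.Normal] [U.Normal] (g : P) :
    alg F D U →ₐ[F] alg F D U :=
  ((cgHom g).comp (alg F D U).val).codRestrict (alg F D U) (fun a => cg_mem_alg g a.2)

/-- Conjugation on the characters. -/
noncomputable instance charAction {D U : Subgroup P} [D.Normal] [U.Normal] :
    MulAction P (alg F D U →ₐ[F] F) where
  smul g χ := χ.comp (conjA g⁻¹)
  one_smul χ := AlgHom.ext fun a => by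
    show χ (conjA (1 : P)⁻¹ a) = χ a
    congr 1
    exact Subtype.ext (by show cg (1 : P)⁻¹ (a : MonoidAlgebra F P) = _; rw [inv_one, cg_one])
  mul_smul g h χ := AlgHom.ext fun a => by
    show χ (conjA (g * h)⁻¹ a) = χ (conjA h⁻¹ (conjA g⁻¹ a))
    congr 1
    exact Subtype.ext (by
      show cg (g * h)⁻¹ (a : MonoidAlgebra F P) = cg h⁻¹ (cg g⁻¹ (a : MonoidAlgebra F P))
      rw [cg_cg, mul_inv_rev])

theorem smul_char_apply {D U : Subgroup P} [D.Normal] [U.Normal] (g : P)
    (χ : alg F D U →ₐ[F] F) (a : alg F D U) : (g • χ) a = χ (conjA g⁻¹ a) := rfl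

theorem smul_char_of_mem {D U : Subgroup P} [D.Normal] [U.Normal] {d : P} (hd : d ∈ D)
    (χ : alg F D U →ₐ[F] F) : d • χ = χ := AlgHom.ext fun a => by
  rw [smul_char_apply]
  exact congrArg χ (Subtype.ext (a.2.2 _ (D.inv_mem hd)))

end CfsgLib.FgsC.CaminaKernel
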