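import Cfsg.Agent.Lib.FgsC.CaminaKernel.Module
import Cfsg.Agent.Lib.Base.ThompsonFPF
import Cfsg.Agent.Lib.Coprime.Action

/-!
A p-group `P` with a proper normal subgroup `Q`, `(P, Q)` a Camina pair, acting on a p'-group with no
element outside `Q` fixing a nontrivial element: the p'-group is nilpotent.
-/

set_option autoImplicit false
set_option linter.unusedSectionVars false
set_option linter.style.haveILetI false

namespace CfsgLib.FgsC.CaminaKernel

open scoped TensorProduct

variable {P : Type*} [Group P] [Finite P]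

/-- The conclusion for an `r`-group. -/
def Good {R : Type*} [Group R] (p : ℕ) (Q : Subgroup P) (φ : P →* MulAut R) : Prop :=
  (p ≠ 2 → ∀ u : R, u = 1) ∧ (p = 2 → (∀ q ∈ Q, ∀ u, φ (q * q) u = u) ∧
    ∀ y, y ∉ Q → y * y ∈ Q → ∀ u, φ (y * y) u = u → u = 1)

section Elementary

variable {N : Type*} [CommGroup N] [Finite N] {p r : ℕ} [hp : Fact p.Prime] [hr : Fact r.Prime]

theorem good_elementary (hP : IsPGroup p P) (hrp : r ≠ p) (hN : ∀ u : N, u ^ r = 1)
    {Q : Subgroup P} [Q.Normal] (hQ1 : Q ≠ ⊥) (hQ2 : Q ≠ ⊤) (h : Cam Q) (φ : P →* MulAut N)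
    (hfpf : ∀ x, x ∉ Q → ∀ u, φ x u = u → u = 1) : Good p Q φ := by
  classical
  letI : Module (ZMod r) (Additive N) := AddCommGroup.zmodModule (n := r) fun u => hN (Additive.toMul u)
  let lin : P → Module.End (ZMod r) (Additive N) := fun g =>
    AddMonoidHom.toZModLinearMap r (MonoidHom.toAdditive (φ g).toMonoidHom)
  let K := AlgebraicClosure (ZMod r)
  let ρ : Representation K P (K ⊗[ZMod r] Additive N) :=
    { toFun := fun g => (lin g).baseChange K
      map_one' := by
        rw [show lin 1 = 1 from LinearMap.ext fun u => congrArg Additive.ofMul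
          (DFunLike.congr_fun (map_one φ) (Additive.toMul u))]
        exact LinearMap.baseChange_one _ _
      map_mul' := fun a b => by
        rw [show lin (a * b) = lin a * lin b from LinearMap.ext fun u => congrArg Additive.ofMul
          (DFunLike.congr_fun (map_mul φ a b) (Additive.toMul u))]
        exact LinearMap.baseChange_mul _ _ }
  have hpK : (p : K) ≠ 0 := by
    intro h0
    haveI : CharP K r := charP_of_injective_algebraMap (algebraMap (ZMod r) K).injective r
    exact hrp ((Nat.prime_dvd_prime_iff_eq hr.out hp.out).mp ((CharP.cast_eq_zero_iff K r p).mp h0))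
  have hρfpf : ∀ x, x ∉ Q → ∀ v, ρ x v = v → v = 0 := by
    intro x hx v hv
    let L : Module.End (ZMod r) (Additive N) := lin x - 1
    have hinj : Function.Injective L := by
      refine (injective_iff_map_eq_zero L).mpr fun u hu => ?_
      have h1 : lin x u = u := sub_eq_zero.mp hu
      exact congrArg Additive.ofMul (hfpf x hx (Additive.toMul u) (congrArg Additive.toMul h1))
    let e := LinearEquiv.ofBijective L ⟨hinj, Finite.injective_iff_surjective.mp hinj⟩
    have h2 : (L.baseChange K) v = 0 := by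
      show ((lin x - 1).baseChange K) v = 0
      rw [LinearMap.baseChange_sub, LinearMap.baseChange_one, LinearMap.sub_apply,
        Module.End.one_apply, sub_eq_zero]
      exact hv
    have h3 : (e.symm.toLinearMap.baseChange K) (L.baseChange K v) = v := by
      rw [← LinearMap.comp_apply, ← LinearMap.baseChange_comp,
        show e.symm.toLinearMap ∘ₗ L = LinearMap.id from
          LinearMap.ext fun u => e.symm_apply_apply u, LinearMap.baseChange_id]
      rfl
    rw [← h3, h2, map_zero]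
  have hinj : ∀ u : Additive N, ((1 : K) ⊗ₜ[ZMod r] u) = 0 → u = 0 := by
    intro u hu
    by_contra hu0
    let b := Module.Basis.ofVectorSpace (ZMod r) (Additive N)
    obtain ⟨i, hi⟩ : ∃ i, b.coord i u ≠ 0 := by
      by_contra hc
      push Not at hc
      exact hu0 (b.forall_coord_eq_zero_iff.mp hc)
    have h1 := congrArg (fun w => TensorProduct.rid (ZMod r) K ((b.coord i).lTensor K w)) hu
    simp only [LinearMap.lTensor_tmul, TensorProduct.rid_tmul, map_zero] at h1
    rw [smul_eq_zero] at h1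
    exact h1.elim hi one_ne_zero
  have htmul : ∀ g (u : N), ρ g ((1 : K) ⊗ₜ[ZMod r] Additive.ofMul u) =
      (1 : K) ⊗ₜ[ZMod r] Additive.ofMul (φ g u) := fun g u => rfl
  refine ⟨fun hp2 u => ?_, fun hp2 => ?_⟩
  · rcases module_sign ρ hP hpK hQ1 hQ2 h hρfpf ((1 : K) ⊗ₜ Additive.ofMul u) with h0 | ⟨h0, -⟩
    · exact congrArg Additive.toMul (hinj _ h0)
    · exact absurd h0 hp2
  · subst hp2
    have h2K : (2 : K) ≠ 0 := by exact_mod_cast hpK
    refine ⟨fun q hq u => ?_, fun y hy hy2 u hu => ?_⟩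
    · have h1 : ∀ w, ρ q (ρ q w) = w := fun w => by
        rcases module_sign ρ hP hpK hQ1 hQ2 h hρfpf w with h0 | ⟨-, h1⟩
        · rw [h0, map_zero, map_zero]
        · exact h1 q hq w
      have h2 := h1 ((1 : K) ⊗ₜ Additive.ofMul u)
      rw [← rho_mul, htmul] at h2
      rw [← sub_eq_zero, ← TensorProduct.tmul_sub] at h2
      exact congrArg Additive.toMul (sub_eq_zero.mp (hinj _ h2))
    · have h1 := neg_of_sq ρ hP h2K hQ1 hQ2 h hρfpf hy hy2 ((1 : K) ⊗ₜ Additive.ofMul u)
      rw [htmul, hu, eq_neg_iff_add_eq_zero, ← two_smul K] at h1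
      exact congrArg Additive.toMul (hinj _ ((smul_eq_zero.mp h1).resolve_left h2K))

end Elementary

theorem good_of_isPGroup {p r : ℕ} [hp : Fact p.Prime] [hr : Fact r.Prime] (hP : IsPGroup p P)
    (hrp : r ≠ p) {Q : Subgroup P} [Q.Normal] (hQ1 : Q ≠ ⊥) (hQ2 : Q ≠ ⊤) (h : Cam Q) :
    ∀ (n : ℕ) {R : Type*} [Group R] [Finite R] (_ : IsPGroup r R) (φ : P →* MulAut R),
      (∀ x, x ∉ Q → ∀ u, φ x u = u → u = 1) → Nat.card R ≤ n → Good p Q φ := by
  intro n
  induction n with
  | zero => intro R _ _ _ φ _ hc; exact absurd hc (not_le.mpr Nat.card_pos)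
  | succ n ih =>
  intro R _ _ hR φ hfpf hcard
  rcases subsingleton_or_nontrivial R with hs | hn
  · exact ⟨fun _ u => Subsingleton.elim u 1, fun _ => ⟨fun q _ u => Subsingleton.elim _ _,
      fun y _ _ u _ => Subsingleton.elim _ _⟩⟩
  let N : Subgroup R :=
    { carrier := {u | u ∈ Subgroup.center R ∧ u ^ r = 1}
      one_mem' := ⟨one_mem _, one_pow r⟩
      mul_mem' := fun {a b} ha hb => ⟨mul_mem ha.1 hb.1, by
        rw [(show Commute a b from (Subgroup.mem_center_iff.mp ha.1 b).symm).mul_pow, ha.2, hb.2,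
          mul_one]⟩
      inv_mem' := fun {a} ha => ⟨inv_mem ha.1, by rw [inv_pow, ha.2, inv_one]⟩ }
  haveI hNn : N.Normal := ⟨fun u hu g => by
    rw [Subgroup.mem_center_iff.mp hu.1 g, mul_inv_cancel_right]
    exact hu⟩
  have hNinv : ∀ g : P, ∀ u ∈ N, φ g u ∈ N := by
    intro g u hu
    refine ⟨Subgroup.mem_center_iff.mpr fun w => ?_, by rw [← map_pow, hu.2, map_one]⟩
    obtain ⟨w', rfl⟩ := (φ g).surjective w
    rw [← map_mul, ← map_mul, Subgroup.mem_center_iff.mp hu.1 w']
  have hNmap : ∀ g : P, N.map (φ g).toMonoidHom = N := fun g =>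
    Subgroup.eq_of_le_of_card_ge (Subgroup.map_le_iff_le_comap.mpr fun u hu => hNinv g u hu)
      (by rw [Subgroup.card_map_of_injective (φ g).injective])
  letI : CommGroup N :=
    { (inferInstance : Group N) with
      mul_comm := fun a b => Subtype.ext (Subgroup.mem_center_iff.mp b.2.1 a) }
  let φN : P →* MulAut N :=
    { toFun := fun g =>
        { toFun := fun u => ⟨φ g u, hNinv g u u.2⟩
          invFun := fun u => ⟨φ g⁻¹ u, hNinv g⁻¹ u u.2⟩
          left_inv := fun u => Subtype.ext (by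
            show φ g⁻¹ (φ g (u : R)) = u
            rw [← MulAut.mul_apply, ← map_mul, inv_mul_cancel, map_one]; rfl)
          right_inv := fun u => Subtype.ext (by
            show φ g (φ g⁻¹ (u : R)) = u
            rw [← MulAut.mul_apply, ← map_mul, mul_inv_cancel, map_one]; rfl)
          map_mul' := fun a b => Subtype.ext (map_mul (φ g) (a : R) b) }
      map_one' := MulEquiv.ext fun u => Subtype.ext (by show φ 1 (u : R) = u; rw [map_one]; rfl)
      map_mul' := fun a b => MulEquiv.ext fun u => Subtype.ext (by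
        show φ (a * b) (u : R) = φ a (φ b (u : R))
        rw [map_mul]; rfl) }
  let φq : P →* MulAut (R ⧸ N) :=
    { toFun := fun g => QuotientGroup.congr N N (φ g) (hNmap g)
      map_one' := MulEquiv.ext fun w => by
        induction w using QuotientGroup.induction_on with
        | H u => show ((φ 1 u : R) : R ⧸ N) = u; rw [map_one]; rfl
      map_mul' := fun a b => MulEquiv.ext fun w => by
        induction w using QuotientGroup.induction_on with
        | H u => show ((φ (a * b) u : R) : R ⧸ N) = (φ a (φ b u) : R); rw [map_mul]; rfl }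
  have hfN : ∀ x, x ∉ Q → ∀ u : N, φN x u = u → u = 1 := fun x hx u hu =>
    Subtype.ext (hfpf x hx u (congrArg Subtype.val hu))
  have hN : Good p Q φN := good_elementary hP hrp (fun u => Subtype.ext u.2.2) hQ1 hQ2 h φN hfN
  have hfq : ∀ x, x ∉ Q → ∀ w : R ⧸ N, φq x w = w → w = 1 := by
    intro x hx w
    induction w using QuotientGroup.induction_on with
    | H u =>
      intro hu
      have hd : u⁻¹ * φ x u ∈ N := QuotientGroup.eq.mp hu.symm
      set L : N → N := fun m => m⁻¹ * φN x m with hL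
      have hLinj : Function.Injective L := by
        intro a b hab
        have h1 : φN x (a * b⁻¹) = a * b⁻¹ := by
          rw [map_mul, map_inv]
          calc φN x a * (φN x b)⁻¹ = (a * (a⁻¹ * φN x a)) * (b * (b⁻¹ * φN x b))⁻¹ := by group
            _ = (a * (a⁻¹ * φN x a)) * (b * (a⁻¹ * φN x a))⁻¹ := by
                rw [show a⁻¹ * φN x a = b⁻¹ * φN x b from hab]
            _ = a * b⁻¹ := by group
        exact mul_inv_eq_one.mp (hfN x hx _ h1)
      obtain ⟨m, hm⟩ := Finite.injective_iff_surjective.mp hLinj (⟨_, hd⟩⁻¹ : N)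
      have h2 : φ x (u * (m : R)) = u * (m : R) := by
        have h3 : (m : R)⁻¹ * φ x (m : R) = (u⁻¹ * φ x u)⁻¹ := congrArg Subtype.val hm
        have h4 : Commute (u⁻¹ * φ x u) (m : R) := Subgroup.mem_center_iff.mp m.2.1 _
        calc φ x (u * (m : R)) = u * (u⁻¹ * φ x u) * ((m : R) * ((m : R)⁻¹ * φ x (m : R))) := by
              rw [map_mul]; group
          _ = u * ((u⁻¹ * φ x u) * (m : R)) * (u⁻¹ * φ x u)⁻¹ := by rw [h3]; group
          _ = u * ((m : R) * (u⁻¹ * φ x u)) * (u⁻¹ * φ x u)⁻¹ := by rw [h4.eq]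
          _ = _ := by group
      have h5 := hfpf x hx _ h2
      refine (QuotientGroup.eq_one_iff u).mpr ?_
      rw [eq_inv_of_mul_eq_one_left h5]
      exact N.inv_mem m.2
  have hNne : N ≠ ⊥ := by
    haveI := hR.center_nontrivial
    obtain ⟨k, hk, hk'⟩ := (hR.to_subgroup (Subgroup.center R)).nontrivial_iff_card.mp inferInstance
    obtain ⟨z, hz⟩ := exists_prime_orderOf_dvd_card' (G := Subgroup.center R) r
      (hk' ▸ dvd_pow_self r hk.ne')
    intro hb
    have hm : (z : R) ∈ N := ⟨z.2, by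
      rw [← hz, ← Subgroup.orderOf_coe, pow_orderOf_eq_one]⟩
    rw [hb, Subgroup.mem_bot] at hm
    rw [show z = 1 from Subtype.ext hm, orderOf_one] at hz
    exact hr.out.ne_one hz.symm
  have hlt : Nat.card (R ⧸ N) ≤ n := by
    have h1 := Subgroup.card_eq_card_quotient_mul_card_subgroup N
    have h2 : 1 < Nat.card N := (Subgroup.one_lt_card_iff_ne_bot N).mpr hNne
    have h3 : 0 < Nat.card (R ⧸ N) := Nat.card_pos
    nlinarith
  have hq := ih (hR.to_quotient N) φq hfq hlt
  refine ⟨fun hp2 u => ?_, fun hp2 => ⟨fun q hq' u => ?_, fun y hy hy2 u hu => ?_⟩⟩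
  · have h1 : u ∈ N := (QuotientGroup.eq_one_iff u).mp (hq.1 hp2 (u : R ⧸ N))
    exact congrArg Subtype.val (hN.1 hp2 ⟨u, h1⟩)
  · have hmem : u⁻¹ * φ (q * q) u ∈ N :=
      QuotientGroup.eq.mp ((hq.2 hp2).1 q hq' (u : R ⧸ N)).symm
    set m := u⁻¹ * φ (q * q) u with hm
    have hfix : φ (q * q) m = m := congrArg Subtype.val ((hN.2 hp2).1 q hq' ⟨m, hmem⟩)
    have hpow : ∀ k : ℕ, φ ((q * q) ^ k) u = u * m ^ k := by
      intro k
      induction k with
      | zero => rw [pow_zero, pow_zero, map_one, mul_one]; rfl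
      | succ k ih =>
        have hmk : ∀ j : ℕ, φ (q * q) (m ^ j) = m ^ j := fun j => by rw [map_pow, hfix]
        rw [pow_succ', map_mul, MulAut.mul_apply, ih, map_mul, hmk,
          show φ (q * q) u = u * m by rw [hm]; group, pow_succ', mul_assoc]
    have h1 := hpow (orderOf (q * q))
    rw [pow_orderOf_eq_one, map_one] at h1
    have h2 : m ^ orderOf (q * q) = 1 := (left_eq_mul.mp h1)
    have h3 : m = 1 := by
      rw [← orderOf_eq_one_iff, ← Nat.dvd_one]
      obtain ⟨k, hk⟩ := IsPGroup.iff_orderOf.mp hP (q * q)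
      have hcop : Nat.Coprime (p ^ k) r :=
        ((Nat.coprime_primes hp.out hr.out).mpr hrp.symm).pow_left k
      rw [← hcop.gcd_eq_one, ← hk]
      exact Nat.dvd_gcd (orderOf_dvd_of_pow_eq_one h2) (orderOf_dvd_of_pow_eq_one hmem.2)
    rw [hm, inv_mul_eq_one] at h3
    exact h3.symm
  · have h1 : u ∈ N := (QuotientGroup.eq_one_iff u).mp
      ((hq.2 hp2).2 y hy hy2 (u : R ⧸ N) (congrArg (fun w : R => (w : R ⧸ N)) hu))
    exact congrArg Subtype.val ((hN.2 hp2).2 y hy hy2 ⟨u, h1⟩ (Subtype.ext hu))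

/-- The nilpotency theorem. -/
theorem isNilpotent_of_cam {G : Type*} [Group G] [Finite G] {p : ℕ} [hp : Fact p.Prime]
    (S : Subgroup G) (hS : IsPGroup p S) (K : Subgroup G) [K.Normal] (hK : ¬ p ∣ Nat.card K)
    (Q : Subgroup S) [Q.Normal] (hQ2 : Q ≠ ⊤) (h : Cam Q)
    (hfpf : ∀ x : S, x ∉ Q → ∀ k ∈ K, Commute (x : G) k → k = 1) : Group.IsNilpotent K := by
  classical
  have hfix : ∀ x : S, x ∉ Q → MonoidHom.FixedPointFree
      ((MulAut.conjNormal (x : G) : MulAut K) : K → K) := fun x hx k hk =>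
    Subtype.ext (hfpf x hx k k.2 (mul_inv_eq_iff_eq_mul.mp
      (congrArg Subtype.val hk : (x : G) * (k : G) * (x : G)⁻¹ = k)))
  rcases eq_or_ne Q ⊥ with rfl | hQ1
  · haveI : Nontrivial S := by
      refine not_subsingleton_iff_nontrivial.mp fun hs => hQ2 ?_
      exact Subsingleton.elim (α := Subgroup S) _ _
    obtain ⟨k, hk, hk'⟩ := hS.nontrivial_iff_card.mp inferInstance
    obtain ⟨x, hx⟩ := exists_prime_orderOf_dvd_card' (G := S) p (hk' ▸ dvd_pow_self p hk.ne')
    refine Base.isNilpotent_of_fixedPointFree (MulAut.conjNormal (x : G)) (hfix x ?_) hp.out ?_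
    · intro h1
      rw [Subgroup.mem_bot.mp h1, orderOf_one] at hx
      exact hp.out.ne_one hx.symm
    · rw [← map_pow, ← SubmonoidClass.coe_pow, ← hx, pow_orderOf_eq_one, Subgroup.coe_one, map_one]
  haveI : Group.IsNilpotent S := hS.isNilpotent
  have hsol : Group.IsSolvable S := inferInstance
  have hcop : (Nat.card S).Coprime (Nat.card K) := by
    obtain ⟨k, hk⟩ := IsPGroup.iff_card.mp hS
    rw [hk]
    exact (hp.out.coprime_iff_not_dvd.mpr hK).pow_left k
  have hSK : S ≤ Subgroup.normalizer (K : Set G) := by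
    rw [Subgroup.normalizer_eq_top]; exact le_top
  have hgood : ∀ r : ℕ, r.Prime → r ∣ Nat.card K → ∃ R : Sylow r K,
      S ≤ Subgroup.normalizer (((R : Subgroup K).map K.subtype : Subgroup G) : Set G) ∧
      (p ≠ 2 → (R : Subgroup K) = ⊥) ∧
      (p = 2 → (∀ q ∈ Q, ∀ u ∈ (R : Subgroup K).map K.subtype,
          Commute (((q : S) * q : S) : G) u) ∧
        ∀ y : S, y ∉ Q → y * y ∈ Q → ∀ u ∈ (R : Subgroup K).map K.subtype,
          Commute ((y * y : S) : G) u → u = 1) := by
    intro r hr hrK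
    haveI := Fact.mk hr
    have hrp : r ≠ p := fun e => hK (e ▸ hrK)
    obtain ⟨R, hR⟩ := Coprime.exists_invariant_sylow (p := r) hSK hcop (Or.inl hsol)
    set T := (R : Subgroup K).map K.subtype with hT
    have hmem : ∀ s : S, ∀ u ∈ T, (s : G) * u * (s : G)⁻¹ ∈ T := fun s u hu =>
      (Subgroup.mem_normalizer_iff.mp (hR s.2) u).mp hu
    let φ : S →* MulAut T :=
      { toFun := fun s =>
          { toFun := fun u => ⟨(s : G) * u * (s : G)⁻¹, hmem s u u.2⟩
            invFun := fun u => ⟨((s⁻¹ : S) : G) * u * ((s⁻¹ : S) : G)⁻¹, hmem s⁻¹ u u.2⟩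
            left_inv := fun u => Subtype.ext (by simp [mul_assoc])
            right_inv := fun u => Subtype.ext (by simp [mul_assoc])
            map_mul' := fun a b => Subtype.ext (by
              simp only [Subgroup.coe_mul]
              group) }
        map_one' := MulEquiv.ext fun u => Subtype.ext (by simp)
        map_mul' := fun a b => MulEquiv.ext fun u => Subtype.ext (by
          show ((a * b : S) : G) * u * ((a * b : S) : G)⁻¹
            = (a : G) * ((b : G) * u * (b : G)⁻¹) * (a : G)⁻¹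
          rw [Subgroup.coe_mul]
          group) }
    have hcm : ∀ (s : S) (u : T), φ s u = u ↔ Commute (s : G) u := fun s u =>
      ⟨fun h1 => mul_inv_eq_iff_eq_mul.mp (congrArg Subtype.val h1),
        fun h1 => Subtype.ext (mul_inv_eq_iff_eq_mul.mpr h1.eq)⟩
    obtain ⟨g1, g2⟩ := good_of_isPGroup hS hrp hQ1 hQ2 h _ (R.isPGroup'.map K.subtype) φ
      (fun x hx u hu => Subtype.ext
        (hfpf x hx u (Subgroup.map_subtype_le _ u.2) ((hcm x u).mp hu))) le_rfl
    refine ⟨R, hR, fun h2 => ?_, fun h2 => ⟨fun q hq u hu => (hcm _ ⟨u, hu⟩).mp ((g2 h2).1 q hq _),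
      fun y hy hy2 u hu hc =>
        congrArg Subtype.val ((g2 h2).2 y hy hy2 ⟨u, hu⟩ ((hcm _ ⟨u, hu⟩).mpr hc))⟩⟩
    refine (Subgroup.eq_bot_iff_forall _).mpr fun u hu => ?_
    exact Subtype.ext (congrArg Subtype.val (g1 h2 ⟨u, u, hu, rfl⟩) :)
  rcases ne_or_eq p 2 with hp2 | rfl
  · suffices hK1 : Nat.card K = 1 by
      haveI := (Nat.card_eq_one_iff_unique.mp hK1).1
      infer_instance
    by_contra hne
    obtain ⟨r, hr, hrK⟩ := Nat.exists_prime_and_dvd hne
    haveI := Fact.mk hr
    obtain ⟨R, -, h1, -⟩ := hgood r hr hrK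
    exact R.ne_bot_of_dvd_card hrK (h1 hp2)
  -- p = 2
  obtain ⟨y, hy, hy2⟩ : ∃ y : S, y ∉ Q ∧ y * y ∈ Q := by
    obtain ⟨x, -, hx⟩ := SetLike.exists_of_lt (lt_top_iff_ne_top.mpr hQ2)
    have hex : ∃ k, x ^ 2 ^ k ∈ Q := by
      obtain ⟨k, hk⟩ := hS x
      exact ⟨k, hk ▸ Q.one_mem⟩
    obtain ⟨k, hk⟩ : ∃ k, Nat.find hex = k + 1 := by
      refine Nat.exists_eq_succ_of_ne_zero fun h0 => hx ?_
      have := Nat.find_spec hex
      rwa [h0, pow_zero, pow_one] at this
    refine ⟨x ^ 2 ^ k, Nat.find_min hex (by omega), ?_⟩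
    rw [← pow_add, ← two_mul, ← pow_succ', ← hk]
    exact Nat.find_spec hex
  set t : G := ((y * y : S) : G) with ht
  refine Base.isNilpotent_of_fixedPointFree (MulAut.conjNormal t) (fun k hk => ?_) Nat.prime_two ?_
  · by_contra hk1
    set A := Subgroup.zpowers (y : G) with hA
    set C := K ⊓ Subgroup.centralizer ({t} : Set G) with hC
    have hkC : (k : G) ∈ C := ⟨k.2, Subgroup.mem_centralizer_singleton_iff.mpr
      (mul_inv_eq_iff_eq_mul.mp (congrArg Subtype.val hk : t * (k : G) * t⁻¹ = k)).symm⟩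
    have hC1 : Nat.card C ≠ 1 := fun e => hk1 (Subtype.ext (by
      have := Subgroup.card_eq_one.mp e ▸ hkC
      exact Subgroup.mem_bot.mp this))
    obtain ⟨r, hr, hrC⟩ := Nat.exists_prime_and_dvd hC1
    haveI := Fact.mk hr
    have hrK : r ∣ Nat.card K := hrC.trans (Subgroup.card_dvd_of_le inf_le_left)
    have hAS : A ≤ S := Subgroup.zpowers_le.mpr y.2
    have hAC : A ≤ Subgroup.normalizer (C : Set G) := by
      refine Subgroup.zpowers_le.mpr (Subgroup.mem_normalizer_iff.mpr fun u => ?_)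
      have hty : Commute t (y : G) := by
        rw [ht, Subgroup.coe_mul]
        exact (Commute.refl _).mul_left (Commute.refl _)
      have h1 : ∀ g : G, Commute t g → ∀ u ∈ C, g * u * g⁻¹ ∈ C := fun g hg u hu =>
        ⟨(inferInstance : K.Normal).conj_mem u hu.1 g, Subgroup.mem_centralizer_singleton_iff.mpr
          ((hg.mul_right (show Commute t u from
            (Subgroup.mem_centralizer_singleton_iff.mp hu.2).symm)).mul_right hg.inv_right).symm⟩
      refine ⟨h1 _ hty u, fun hu => ?_⟩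
      simpa [mul_assoc] using h1 _ hty.inv_right _ hu
    have hcopA : (Nat.card A).Coprime (Nat.card K) :=
      hcop.coprime_dvd_left (Subgroup.card_dvd_of_le hAS)
    have hsolA : Group.IsSolvable A := by
      haveI := (hS.to_le hAS).isNilpotent
      infer_instance
    obtain ⟨U, hU⟩ := Coprime.exists_invariant_sylow (p := r) hAC
      (hcopA.coprime_dvd_right (Subgroup.card_dvd_of_le inf_le_left)) (Or.inl hsolA)
    obtain ⟨W, hUW, hW⟩ := Coprime.exists_invariant_sylow_ge (p := r) (hAS.trans hSK) hcopA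
      (Or.inl hsolA) ((Subgroup.map_subtype_le _).trans inf_le_left) (U.isPGroup'.map C.subtype) hU
    obtain ⟨R, hR, -, h2⟩ := hgood r hr hrK
    obtain ⟨c, hc, hcR⟩ := Coprime.invariant_sylow_conj (hAS.trans hSK) hcopA (Or.inl hsolA) W R hW
      (hAS.trans hR)
    have hc1 : c = 1 := Subtype.ext (hfpf y hy c c.2
      (Subgroup.mem_centralizer_iff.mp hc (y : G) (Subgroup.mem_zpowers _)))
    rw [hc1, map_one, one_smul] at hcR
    refine U.ne_bot_of_dvd_card hrC ((Subgroup.eq_bot_iff_forall _).mpr fun u hu => Subtype.ext ?_)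
    have huG : (u : G) ∈ (U : Subgroup C).map C.subtype := ⟨u, hu, rfl⟩
    exact (h2 rfl).2 y hy hy2 u (hcR ▸ hUW huG)
      (Subgroup.mem_centralizer_singleton_iff.mp u.2.2).symm
  · rw [← map_pow, pow_two]
    have hle : K ≤ Subgroup.centralizer ({t * t} : Set G) := by
      set D := K ⊓ Subgroup.centralizer ({t * t} : Set G) with hD
      suffices hDK : Nat.card K ∣ Nat.card D by
        rw [← Subgroup.eq_of_le_of_card_ge (inf_le_left : D ≤ K) (Nat.le_of_dvd Nat.card_pos hDK)]
        exact inf_le_right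
      rw [Nat.dvd_iff_prime_pow_dvd_dvd]
      intro r k hr hdvd
      rcases Nat.eq_zero_or_pos k with rfl | hk0
      · simp
      haveI := Fact.mk hr
      obtain ⟨R, -, -, h2⟩ := hgood r hr ((dvd_pow_self r hk0.ne').trans hdvd)
      have hle : (R : Subgroup K).map K.subtype ≤ D := fun u hu =>
        ⟨Subgroup.map_subtype_le _ hu, Subgroup.mem_centralizer_singleton_iff.mpr (by
          have h3 := ((h2 rfl).1 (y * y) hy2 u hu).eq
          rw [Subgroup.coe_mul] at h3
          exact h3.symm)⟩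
      refine dvd_trans ?_ (Subgroup.card_dvd_of_le hle)
      rw [Subgroup.card_map_of_injective K.subtype_injective, Sylow.card_eq_multiplicity]
      exact pow_dvd_pow r ((hr.pow_dvd_iff_le_factorization Nat.card_pos.ne').mp hdvd)
    refine MulEquiv.ext fun k => Subtype.ext ?_
    show t * t * (k : G) * (t * t)⁻¹ = k
    rw [← Subgroup.mem_centralizer_singleton_iff.mp (hle k.2), mul_inv_cancel_right]

end CfsgLib.FgsC.CaminaKernel
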