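import Cfsg.Agent.Lib.FgsC.CaminaKernel.Kernel
import Cfsg.Agent.Lib.SolvStruct.CaminaPairs
import Cfsg.Agent.Lib.Transfer.Tate

/-!
The kernel of a Camina pair is solvable.
-/

set_option autoImplicit false
set_option linter.unusedSectionVars false
set_option linter.style.haveILetI false

namespace CfsgLib.FgsC.CaminaKernel

variable {G : Type*} [Group G] [Finite G]

/-- A prime dividing the index but not the order of `N`: `N` is nilpotent. -/
theorem isNilpotent_of_prime_index {N : Subgroup G} [N.Normal] (h : CfsgLib.CaminaPairs.Cam N)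
    {q : ℕ} [hq : Fact q.Prime] (hqi : q ∣ N.index) (hqN : ¬ q ∣ Nat.card N) :
    Group.IsNilpotent N := by
  obtain ⟨g, hg⟩ := exists_prime_orderOf_dvd_card' (G := G) q
    (hqi.trans N.index_dvd_card)
  have hgN : g ∉ N := fun hN => hqN (hg ▸ Subgroup.orderOf_dvd_natCard N hN)
  refine Base.isNilpotent_of_fixedPointFree (MulAut.conjNormal g) (fun k hk => Subtype.ext ?_)
    hq.out (by rw [← map_pow, ← hg, pow_orderOf_eq_one, map_one])
  refine CfsgLib.CaminaPairs.eq_one_of_coprime h hgN k.2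
    (mul_inv_eq_iff_eq_mul.mp (congrArg Subtype.val hk : g * (k : G) * g⁻¹ = k)) ?_
  rw [hg]
  exact hq.out.coprime_iff_not_dvd.mpr fun hd =>
    hqN (hd.trans (Subgroup.orderOf_dvd_natCard N k.2))

/-- `(G, N)` with `G = P N` gives a pair on `P`. -/
theorem cam_sylow {N : Subgroup G} [N.Normal] (h : CfsgLib.CaminaPairs.Cam N) (P : Subgroup G)
    (hsup : P ⊔ N = ⊤) : Cam (N.subgroupOf P) := by
  haveI hn : (N.subgroupOf P).Normal := inferInstance
  refine (Cfsg.Agent.S4142.result (N.subgroupOf P)).mpr fun g hg => le_antisymm ?_ ?_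
  · -- through G
    have hgN : (g : G) ∉ N := hg
    have h1 : Nat.card (Subgroup.centralizer ({g} : Set P)) ≤
        Nat.card (Subgroup.centralizer ({(g : G)} : Set G)) :=
      Nat.card_le_card_of_injective (fun x => ⟨((x : P) : G), Subgroup.mem_centralizer_singleton_iff.mpr
        (congrArg Subtype.val (Subgroup.mem_centralizer_singleton_iff.mp x.2) :)⟩)
        fun a b hab => Subtype.ext (Subtype.ext (congrArg Subtype.val hab :))
    rw [(Cfsg.Agent.S4142.result N).mp h g hgN] at h1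
    refine h1.trans ?_
    have hmap : ∀ w : Subgroup.centralizer ({((g : G) : G ⧸ N)} : Set (G ⧸ N)),
        ∃ a : P, ((a : G) : G ⧸ N) = w := by
      intro w
      obtain ⟨m, hm, hmw⟩ := CfsgLib.CaminaPairs.exists_rep hsup (w : G ⧸ N)
      exact ⟨⟨m, hm⟩, hmw⟩
    choose a ha using hmap
    refine Nat.card_le_card_of_injective (fun w => ⟨(a w : P ⧸ N.subgroupOf P), ?_⟩) ?_
    · refine Subgroup.mem_centralizer_singleton_iff.mpr ?_
      rw [← QuotientGroup.mk_mul, ← QuotientGroup.mk_mul, QuotientGroup.eq, Subgroup.mem_subgroupOf]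
      have hw := Subgroup.mem_centralizer_singleton_iff.mp w.2
      rw [← ha w, ← QuotientGroup.mk_mul, ← QuotientGroup.mk_mul, QuotientGroup.eq] at hw
      simpa using hw
    · intro v w hvw
      have h2 := congrArg Subtype.val hvw
      refine Subtype.ext ?_
      rw [← ha v, ← ha w, QuotientGroup.eq]
      simpa [Subgroup.mem_subgroupOf] using QuotientGroup.eq.mp h2
  · -- the conjugates of g lie in g Q
    set Q := N.subgroupOf P
    set Cb := Subgroup.centralizer ({(g : P ⧸ Q)} : Set (P ⧸ Q)) with hCb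
    set C := Subgroup.centralizer ({g} : Set P) with hC
    set D := Cb.comap (QuotientGroup.mk' Q) with hD
    have hδ : ∀ a : D, g⁻¹ * (a : P) * g * (a : P)⁻¹ ∈ Q := by
      intro a
      rw [← QuotientGroup.eq_one_iff]
      simp only [QuotientGroup.mk_mul, QuotientGroup.mk_inv]
      have h1 : ((a : P) : P ⧸ Q) * g = g * ((a : P) : P ⧸ Q) :=
        Subgroup.mem_centralizer_singleton_iff.mp a.2
      rw [mul_assoc ((g : P ⧸ Q))⁻¹, h1]
      group
    let δ : D → Q := fun a => ⟨_, hδ a⟩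
    classical
    let s : Q → D := fun n => if hn : ∃ a, δ a = n then hn.choose else 1
    have hs : ∀ a, δ (s (δ a)) = δ a := fun a => by
      simp only [s, dif_pos (⟨a, rfl⟩ : ∃ b, δ b = δ a)]
      exact (⟨a, rfl⟩ : ∃ b, δ b = δ a).choose_spec
    have hcard : Nat.card D ≤ Nat.card Q * Nat.card C := by
      rw [← Nat.card_prod]
      refine Nat.card_le_card_of_injective (fun a => (δ a,
        (⟨((s (δ a) : D) : P)⁻¹ * (a : P), Subgroup.mem_centralizer_singleton_iff.mpr ?_⟩ : C))) ?_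
      · have h1 : g⁻¹ * ((s (δ a) : D) : P) * g * ((s (δ a) : D) : P)⁻¹
            = g⁻¹ * (a : P) * g * (a : P)⁻¹ := congrArg Subtype.val (hs a)
        set b : P := ((s (δ a) : D) : P)
        calc b⁻¹ * (a : P) * g = b⁻¹ * g * (g⁻¹ * (a : P) * g * (a : P)⁻¹) * a := by group
          _ = b⁻¹ * g * (g⁻¹ * b * g * b⁻¹) * a := by rw [h1]
          _ = g * (b⁻¹ * a) := by group
      · intro a b hab
        have h1 : δ a = δ b := congrArg Prod.fst hab
        have h2 : ((s (δ a) : D) : P)⁻¹ * (a : P) = ((s (δ b) : D) : P)⁻¹ * (b : P) :=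
          congrArg Subtype.val (congrArg Prod.snd hab)
        rw [h1] at h2
        exact Subtype.ext (mul_left_cancel h2)
    rw [hD, card_preimage] at hcard
    exact Nat.le_of_mul_le_mul_left hcard Nat.card_pos

theorem camina_solvable (N : Subgroup G) [N.Normal] (hN1 : N ≠ ⊥) (hN2 : N ≠ ⊤)
    (h : CfsgLib.CaminaPairs.Cam N) : Group.IsSolvable N := by
  rcases CfsgLib.CaminaPairs.camina_trichotomy hN1 hN2 h with hF | hNp | hIp
  · obtain ⟨q, hq, hqi⟩ := Nat.exists_prime_and_dvd (fun e => hN2 (Subgroup.index_eq_one.mp e))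
    haveI := Fact.mk hq
    by_cases hqN : q ∣ Nat.card N
    · exfalso
      obtain ⟨n, hn⟩ := exists_prime_orderOf_dvd_card' q hqN
      obtain ⟨P, hP⟩ := (IsPGroup.of_card (p := q) (n := 1)
        (by rw [Nat.card_zpowers, Subgroup.orderOf_coe, hn, pow_one]) :
          IsPGroup q (Subgroup.zpowers (n : G))).exists_le_sylow
      have hQ : N.subgroupOf (P : Subgroup G) ≠ ⊥ := fun hb => by
        have hm : (⟨(n : G), hP (Subgroup.mem_zpowers _)⟩ : (P : Subgroup G)) ∈
            N.subgroupOf (P : Subgroup G) := n.2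
        rw [hb, Subgroup.mem_bot] at hm
        have h1 : (n : G) = 1 := congrArg Subtype.val hm
        rw [show n = 1 from Subtype.ext h1, orderOf_one] at hn
        exact hq.ne_one hn.symm
      obtain ⟨z, hz, hz1⟩ := (Subgroup.bot_or_exists_ne_one _).resolve_left
        (PGroups.inf_center_ne_bot P.isPGroup' hQ)
      obtain ⟨g, hgP, hgN⟩ := SetLike.not_le_iff_exists.mp (fun hle : (P : Subgroup G) ≤ N => by
        exact P.not_dvd_index' (Subgroup.index_ne_zero_of_finite)
          (hqi.trans (Subgroup.index_dvd_of_le hle)))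
      refine hgN (hF (z : G) hz.1 (fun e => hz1 (Subtype.ext e))
        (Subgroup.mem_centralizer_singleton_iff.mpr ?_))
      exact (congrArg Subtype.val (Subgroup.mem_center_iff.mp hz.2 ⟨g, hgP⟩) :)
    · haveI := isNilpotent_of_prime_index h hqi hqN
      infer_instance
  · obtain ⟨r, k, hr, -, hrk⟩ := hNp
    haveI := Fact.mk hr.nat_prime
    haveI := (IsPGroup.of_card (G := N) (n := k) hrk.symm).isNilpotent
    infer_instance
  obtain ⟨p, k, hp, hk, hpk⟩ := hIp
  haveI := Fact.mk hp.nat_prime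
  have hpi : p ∣ N.index := hpk ▸ dvd_pow_self p hk.ne'
  by_cases hpN : p ∣ Nat.card N
  swap
  · haveI := isNilpotent_of_prime_index h hpi hpN
    infer_instance
  obtain ⟨P⟩ : Nonempty (Sylow p G) := inferInstance
  have hsup : (P : Subgroup G) ⊔ N = ⊤ := by
    refine Subgroup.index_eq_one.mp (Nat.Coprime.eq_one_of_dvd ?_
      (Subgroup.index_dvd_of_le (le_sup_right : N ≤ (P : Subgroup G) ⊔ N)))
    rw [← hpk]
    refine Nat.Coprime.pow_right k (Nat.Coprime.symm ?_)
    exact hp.nat_prime.coprime_iff_not_dvd.mpr fun hd =>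
      P.not_dvd_index' Subgroup.index_ne_zero_of_finite
        (hd.trans (Subgroup.index_dvd_of_le le_sup_left))
  have hcam := cam_sylow h (P : Subgroup G) hsup
  have hQ2 : N.subgroupOf (P : Subgroup G) ≠ ⊤ := fun e => by
    have hle : (P : Subgroup G) ≤ N := Subgroup.subgroupOf_eq_top.mp e
    exact P.not_dvd_index' Subgroup.index_ne_zero_of_finite
      (hpi.trans (Subgroup.index_dvd_of_le hle))
  -- Tate
  have hTate : Cfsg.HasNormalPComplement p N := by
    refine CfsgLib.Transfer.hasNormalPComplement_of_inf_le_frattini P N ?_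
    rintro n ⟨hnN, hnP⟩
    obtain ⟨g, -, hg⟩ := SetLike.exists_of_lt (lt_top_iff_ne_top.mpr hQ2)
    obtain ⟨x, hx⟩ := hcam g hg ⟨n, hnP⟩ hnN
    refine ⟨⟨n, hnP⟩, PGroups.commutator_le_frattini P.isPGroup' ?_, rfl⟩
    have h1 : (⟨n, hnP⟩ : (P : Subgroup G)) = g⁻¹ * x * g * x⁻¹ := by
      rw [show g⁻¹ * x * g * x⁻¹ = g⁻¹ * (x * g * x⁻¹) by group, hx, inv_mul_cancel_left]
    rw [h1, show g⁻¹ * x * g * x⁻¹ = g⁻¹ * x * (g⁻¹)⁻¹ * x⁻¹ by rw [inv_inv]]
    exact Subgroup.commutator_mem_commutator (Subgroup.mem_top _) (Subgroup.mem_top _)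
  obtain ⟨S, K₀, hK₀n, hK₀c⟩ := hTate
  have hK₀p : ¬ p ∣ Nat.card K₀ := by
    intro hd
    refine S.not_dvd_index' Subgroup.index_ne_zero_of_finite ?_
    rw [hK₀c.index_eq_card]
    exact hd
  have hquot : IsPGroup p (N ⧸ K₀) := by
    obtain ⟨j, hj⟩ := IsPGroup.iff_card.mp S.isPGroup'
    refine IsPGroup.of_card (n := j) ?_
    rw [← hj, ← Subgroup.index_eq_card, hK₀c.symm.index_eq_card]
  set K := K₀.map N.subtype with hK
  haveI hKn : K.Normal := by
    refine ⟨fun u hu g => ?_⟩
    obtain ⟨u, hu, rfl⟩ := hu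
    refine ⟨⟨g * (u : G) * g⁻¹, (inferInstance : N.Normal).conj_mem _ u.2 g⟩, ?_, rfl⟩
    show (MulAut.conjNormal g u : N) ∈ K₀
    rw [← QuotientGroup.eq_one_iff]
    obtain ⟨j, hj⟩ := hquot (QuotientGroup.mk (MulAut.conjNormal g u : N))
    have hd : orderOf (QuotientGroup.mk (MulAut.conjNormal g u : N) : N ⧸ K₀) ∣ Nat.card K₀ :=
      (orderOf_map_dvd (QuotientGroup.mk' K₀) _).trans (by
        rw [MulEquiv.orderOf_eq]; exact Subgroup.orderOf_dvd_natCard K₀ hu)
    exact orderOf_eq_one_iff.mp (Nat.eq_one_of_dvd_coprimes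
      ((hp.nat_prime.coprime_iff_not_dvd.mpr hK₀p).pow_left j) (orderOf_dvd_of_pow_eq_one hj) hd)
  have hKcard : ¬ p ∣ Nat.card K := by
    rwa [hK, Subgroup.card_map_of_injective N.subtype_injective]
  have hKnil : Group.IsNilpotent K := isNilpotent_of_cam (P : Subgroup G) P.isPGroup' K hKcard
    (N.subgroupOf (P : Subgroup G)) hQ2 hcam fun x hx k hk hc => by
      refine CfsgLib.CaminaPairs.eq_one_of_coprime h hx (Subgroup.map_subtype_le _ hk) hc ?_
      obtain ⟨j, hj⟩ := IsPGroup.iff_orderOf.mp P.isPGroup' x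
      show (orderOf ((x : (P : Subgroup G)) : G)).Coprime (orderOf k)
      rw [Subgroup.orderOf_coe, hj]
      exact (hp.nat_prime.coprime_iff_not_dvd.mpr fun hd =>
        hKcard (hd.trans (Subgroup.orderOf_dvd_natCard K hk))).pow_left j
  haveI := hquot.isNilpotent
  haveI : Group.IsNilpotent K₀ := Group.nilpotent_of_mulEquiv
    (K₀.equivMapOfInjective N.subtype N.subtype_injective).symm
  exact _root_.solvable_of_ker_le_range K₀.subtype (QuotientGroup.mk' K₀) (by
    rw [QuotientGroup.ker_mk', Subgroup.range_subtype])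

end CfsgLib.FgsC.CaminaKernel
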