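import Cfsg.Agent.Lib.FgsC.CaminaKernel.Count
import Cfsg.Agent.Lib.FgsC.CaminaKernel.Descent

/-!
A coprime module for a Camina pair `(P, Q)`, `Q ≠ 1`, of p-groups in which no element outside `Q`
fixes a nonzero vector: it is zero, or `p = 2` and the elements of `Q` square to one on it.
-/

set_option autoImplicit false
set_option linter.unusedSectionVars false
set_option linter.style.haveILetI false

namespace CfsgLib.FgsC.CaminaKernel

open Finset

variable {F V P : Type*} [Field F] [AddCommGroup V] [Module F V] [Group P] [Finite P]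
  (ρ : Representation F P V)

/-- The fixed space of `Q` is zero. -/
theorem fix_zero {p : ℕ} [hp : Fact p.Prime] (hP : IsPGroup p P) (hpF : (p : F) ≠ 0)
    {Q : Subgroup P} [Q.Normal] (hQ1 : Q ≠ ⊥) (hQ2 : Q ≠ ⊤) (h : Cam Q)
    (hfpf : ∀ x, x ∉ Q → ∀ v, ρ x v = v → v = 0) (v : V) (hv : ∀ q ∈ Q, ρ q v = v) : v = 0 := by
  classical
  haveI : Nontrivial (P ⧸ Q) := QuotientGroup.nontrivial_iff.mpr hQ2
  have hqp := hP.to_quotient Q
  obtain ⟨⟨yb, hyc⟩, hyo⟩ := exists_prime_orderOf_dvd_card' (G := Subgroup.center (P ⧸ Q)) p (by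
    haveI := hqp.center_nontrivial
    obtain ⟨k, hk, hk'⟩ := (hqp.to_subgroup (Subgroup.center (P ⧸ Q))).nontrivial_iff_card.mp
      inferInstance
    exact hk' ▸ dvd_pow_self p hk.ne')
  replace hyo : orderOf yb = p := (Subgroup.orderOf_mk _ _).symm.trans hyo
  obtain ⟨y, rfl⟩ := QuotientGroup.mk_surjective yb
  have hyQ : y ∉ Q := fun hy => by
    rw [(QuotientGroup.eq_one_iff y).mpr hy, orderOf_one] at hyo
    exact hp.out.ne_one hyo.symm
  by_cases hex : ∃ x : P, orderOf (x : P ⧸ Q) = p ∧ (x : P ⧸ Q) ∉ Subgroup.zpowers (y : P ⧸ Q)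
  · obtain ⟨x, hxo, hxy⟩ := hex
    let U : Submodule F V :=
      { carrier := {u | ∀ q ∈ Q, ρ q u = u}
        add_mem' := fun ha hb q hq => by rw [map_add, ha q hq, hb q hq]
        zero_mem' := fun q _ => map_zero _
        smul_mem' := fun c u hu q hq => by rw [map_smul, hu q hq] }
    have hinv : ∀ g : P, ∀ u ∈ U, ρ g u ∈ U := fun g u hu q hq => by
      rw [← rho_mul, show q * g = g * (g⁻¹ * q * g) by group, rho_mul,
        hu _ (by simpa using (inferInstance : Q.Normal).conj_mem q hq g⁻¹)]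
    let σ : P → Module.End F U := fun g => LinearMap.restrict (ρ g) (hinv g)
    have hσ : ∀ g h : P, σ (g * h) = σ g * σ h := fun g h =>
      LinearMap.ext fun u => Subtype.ext (rho_mul ρ g h u)
    have hσ1 : ∀ q ∈ Q, σ q = 1 := fun q hq => LinearMap.ext fun u => Subtype.ext (u.2 q hq)
    have hσpow : ∀ (g : P) (k : ℕ), σ (g ^ k) = σ g ^ k := by
      intro g k
      induction k with
      | zero => rw [pow_zero, pow_zero]; exact hσ1 1 Q.one_mem
      | succ k ih => rw [pow_succ, pow_succ, hσ, ih]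
    have hpQ : ∀ g : P, orderOf (g : P ⧸ Q) = p → g ^ p ∈ Q := fun g hg => by
      rw [← QuotientGroup.eq_one_iff, QuotientGroup.mk_pow, ← hg]
      exact pow_orderOf_eq_one _
    have hcomm : Commute (σ x) (σ y) := by
      have hxy' : (y * x)⁻¹ * (x * y) ∈ Q := QuotientGroup.eq.mp (by
        rw [QuotientGroup.mk_mul, QuotientGroup.mk_mul]
        exact (Subgroup.mem_center_iff.mp hyc (x : P ⧸ Q)).symm)
      show σ x * σ y = σ y * σ x
      rw [← hσ, ← hσ, show x * y = y * x * ((y * x)⁻¹ * (x * y)) by group, hσ, hσ1 _ hxy', mul_one]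
    have hU : (⟨v, hv⟩ : U) = 0 := pair_fixed hp.out hpF (σ x) (σ y) hcomm
      (by rw [← hσpow]; exact hσ1 _ (hpQ x hxo)) (by rw [← hσpow]; exact hσ1 _ (hpQ y hyo))
      (fun u hu => Subtype.ext (hfpf y hyQ u (congrArg Subtype.val hu)))
      (fun k _ u hu => by
        rw [← hσpow, ← hσ] at hu
        refine Subtype.ext (hfpf (x * y ^ k) (fun hm => hxy ?_) u (congrArg Subtype.val hu))
        rw [← QuotientGroup.eq_one_iff, QuotientGroup.mk_mul, QuotientGroup.mk_pow,
          mul_eq_one_iff_eq_inv] at hm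
        rw [hm]
        exact Subgroup.inv_mem _ (Subgroup.pow_mem _ (Subgroup.mem_zpowers _) k)) _
    exact congrArg Subtype.val hU
  exfalso
  push Not at hex
  set M := Subgroup.centralizer ({y} : Set P) ⊔ Q with hM
  have hmeet : ∀ a, a ∉ Q → ∃ c : P, c⁻¹ * a * c ∈ M := by
    intro a ha
    obtain ⟨k, hk⟩ := IsPGroup.iff_orderOf.mp hqp (a : P ⧸ Q)
    obtain ⟨j, rfl⟩ : ∃ j, k = j + 1 := Nat.exists_eq_succ_of_ne_zero fun h0 => ha (by
      rw [h0, pow_zero, orderOf_eq_one_iff] at hk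
      exact (QuotientGroup.eq_one_iff a).mp hk)
    have ho : orderOf ((a ^ p ^ j : P) : P ⧸ Q) = p := by
      rw [QuotientGroup.mk_pow, orderOf_pow' _ (pow_ne_zero j hp.out.ne_zero), hk,
        Nat.gcd_eq_right (pow_dvd_pow p (Nat.le_succ j)), pow_succ,
        Nat.mul_div_cancel_left _ (pow_pos hp.out.pos j)]
    obtain ⟨i, hi⟩ := mem_powers_iff_mem_zpowers.mpr (hex (a ^ p ^ j) ho)
    have hi' : (y : P ⧸ Q) ^ i = ((a ^ p ^ j : P) : P ⧸ Q) := hi
    have hpi : ¬ p ∣ i := fun ⟨m, hm⟩ => by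
      rw [hm, pow_mul, show (y : P ⧸ Q) ^ p = 1 by rw [← hyo]; exact pow_orderOf_eq_one _,
        one_pow] at hi'
      rw [← hi', orderOf_one] at ho
      exact hp.out.ne_one ho.symm
    obtain ⟨n, hn⟩ := exists_pow_eq_self_of_coprime (x := (y : P ⧸ Q)) (n := i) (by
      rw [hyo]; exact ((Nat.Prime.coprime_iff_not_dvd hp.out).mpr hpi).symm)
    have hy' : ((a ^ (p ^ j * n) : P) : P ⧸ Q) = (y : P ⧸ Q) := by
      rw [pow_mul, QuotientGroup.mk_pow, ← hi', hn]
    obtain ⟨c, hc⟩ := h y hyQ (y⁻¹ * a ^ (p ^ j * n)) (QuotientGroup.eq.mp hy'.symm)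
    rw [mul_inv_cancel_left] at hc
    refine ⟨c, Subgroup.mem_sup_left (Subgroup.mem_centralizer_singleton_iff.mpr ?_)⟩
    have hy2 : y = (c⁻¹ * a * c) ^ (p ^ j * n) := by
      rw [show (c⁻¹ * a * c) ^ (p ^ j * n) = c⁻¹ * a ^ (p ^ j * n) * c by
        rw [show c⁻¹ * a * c = c⁻¹ * a * (c⁻¹)⁻¹ by rw [inv_inv], conj_pow, inv_inv], ← hc]
      group
    rw [hy2]
    exact (Commute.self_pow _ _).eq
  have hMtop : M = ⊤ := by
    by_contra hne
    obtain ⟨M', hM', hle⟩ := (eq_top_or_exists_le_coatom M).resolve_left hne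
    haveI := hP.isNilpotent
    haveI hn : M'.Normal :=
      Subgroup.NormalizerCondition.normal_of_coatom M' Group.normalizerCondition_of_isNilpotent hM'
    refine hM'.1 ((Subgroup.eq_top_iff' M').mpr fun a => ?_)
    by_cases ha : a ∈ Q
    · exact hle (Subgroup.mem_sup_right ha)
    · obtain ⟨c, hc⟩ := hmeet a ha
      simpa [mul_assoc] using hn.conj_mem _ (hle hc) c
  obtain ⟨z, hz, hz1⟩ := (Q ⊓ Subgroup.center P).bot_or_exists_ne_one.resolve_left
    (PGroups.inf_center_ne_bot hP hQ1)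
  set f := (QuotientGroup.mk' Q).comp (Subgroup.centralizer ({y} : Set P)).subtype with hf
  have hsurj : Function.Surjective f := by
    intro w
    obtain ⟨a, rfl⟩ := QuotientGroup.mk_surjective w
    have hmem : a ∈ M := hMtop ▸ Subgroup.mem_top a
    obtain ⟨c, hc, q, hq, rfl⟩ := Subgroup.mem_sup_of_normal_right.mp hmem
    exact ⟨⟨c, hc⟩, by
      rw [QuotientGroup.mk_mul, (QuotientGroup.eq_one_iff q).mpr hq, mul_one]; rfl⟩
  have hcard : Nat.card (Subgroup.centralizer ({y} : Set P)) ≤ Nat.card (P ⧸ Q) := by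
    rw [h.card_centralizer hyQ]
    exact Subgroup.card_le_card_group _
  have hbij := (Function.Surjective.bijective_of_nat_card_le hsurj hcard)
  exact hz1 (congrArg Subtype.val (hbij.1 (show f ⟨z, Subgroup.mem_centralizer_singleton_iff.mpr
    (Subgroup.mem_center_iff.mp hz.2 y).symm⟩ = f 1 by
      rw [map_one]; exact (QuotientGroup.eq_one_iff z).mpr hz.1)))

theorem exists_lift_supp {A : Set P} {s : Module.End F V} (hs : s ∈ Submodule.span F (ρ '' A)) :
    ∃ σ ∈ supp F A, ρ.asAlgebraHom σ = s := by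
  induction hs using Submodule.span_induction with
  | mem x hx => obtain ⟨a, ha, rfl⟩ := hx; exact ⟨_, of_mem_supp ha, ρ.asAlgebraHom_of a⟩
  | zero => exact ⟨0, Submodule.zero_mem _, map_zero _⟩
  | add x y _ _ hx hy =>
    obtain ⟨a, ha, rfl⟩ := hx
    obtain ⟨b, hb, rfl⟩ := hy
    exact ⟨a + b, Submodule.add_mem _ ha hb, map_add _ a b⟩
  | smul c x _ hx =>
    obtain ⟨a, ha, rfl⟩ := hx
    exact ⟨c • a, Submodule.smul_mem _ c ha, map_smul _ c a⟩

/-- The module dichotomy. -/
theorem module_sign [IsAlgClosed F] {p : ℕ} [hp : Fact p.Prime] (hP : IsPGroup p P)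
    (hpF : (p : F) ≠ 0) {Q : Subgroup P} [Q.Normal] (hQ1 : Q ≠ ⊥) (hQ2 : Q ≠ ⊤) (h : Cam Q)
    (hfpf : ∀ x, x ∉ Q → ∀ v, ρ x v = v → v = 0) (v : V) :
    v = 0 ∨ (p = 2 ∧ ∀ q ∈ Q, ∀ w : V, ρ q (ρ q w) = w) := by
  classical
  haveI := Fintype.ofFinite P
  have hF : (Nat.card P : F) ≠ 0 := by
    obtain ⟨k, hk⟩ := IsPGroup.iff_card.mp hP
    rw [hk, Nat.cast_pow]
    exact pow_ne_zero k hpF
  have hsubF : ∀ H : Subgroup P, (Nat.card H : F) ≠ 0 := fun H h0 => hF (by
    obtain ⟨m, hm⟩ := Subgroup.card_subgroup_dvd_card H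
    rw [hm, Nat.cast_mul, h0, zero_mul])
  let R := ρ.asAlgebraHom
  have hRof : ∀ g, R (MonoidAlgebra.of F P g) = ρ g := ρ.asAlgebraHom_of
  have hRmul : ∀ a b w, R (a * b) w = R a (R b w) := fun a b w => by rw [map_mul]; rfl
  have hRcg : ∀ g a w, R (cg g a) w = ρ g (R a (ρ g⁻¹ w)) := fun g a w => by
    rw [cg, hRmul, hRmul, hRof, hRof]
  have hgel := gelfand_bijective (F := F) (le_refl Q) hF
  haveI := Fintype.ofFinite (alg F Q Q →ₐ[F] F)
  choose e he using fun χ : alg F Q Q →ₐ[F] F => hgel.2 (fun ψ => if ψ = χ then 1 else 0)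
  have hea : ∀ χ (a : alg F Q Q), a * e χ = χ a • e χ := fun χ a => hgel.1 (funext fun ψ => by
    show ψ (a * e χ) = ψ (χ a • e χ)
    rw [map_mul, map_smul, show ψ (e χ) = _ from congrFun (he χ) ψ]
    split
    · next h => subst h; simp
    · simp)
  have hsum : ∑ χ, e χ = 1 := hgel.1 (funext fun ψ => by
    show ψ (∑ χ, e χ) = ψ 1
    rw [map_sum, map_one, sum_eq_single_of_mem ψ (mem_univ ψ)]
    · rw [show ψ (e ψ) = _ from congrFun (he ψ) ψ, if_pos rfl]
    · intro χ _ hne
      rw [show ψ (e χ) = _ from congrFun (he χ) ψ, if_neg (Ne.symm hne)])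
  have main : ∀ χ (w : V), R (e χ : MonoidAlgebra F P) w ≠ 0 →
      p = 2 ∧ ∀ q ∈ Q, ρ q (ρ q (R (e χ : MonoidAlgebra F P) w)) = R (e χ : MonoidAlgebra F P) w := by
    intro χ w hw
    let W : Submodule F V :=
      { carrier := {u | ∀ a : alg F Q Q, R (a : MonoidAlgebra F P) u = χ a • u}
        add_mem' := fun ha hb a => by rw [map_add, ha a, hb a, smul_add]
        zero_mem' := fun a => by simp
        smul_mem' := fun c u hu a => by rw [map_smul, hu a, smul_comm] }
    have hwW : R (e χ : MonoidAlgebra F P) w ∈ W := fun a => by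
      rw [← hRmul, ← Subalgebra.coe_mul, hea]
      simp
    set H := MulAction.stabilizer P χ with hH
    have hQH : Q ≤ H := fun q hq => smul_char_of_mem hq χ
    have hinv : ∀ g ∈ H, ∀ u ∈ W, ρ g u ∈ W := by
      intro g hg u hu a
      have h1 : R (cg g⁻¹ (a : MonoidAlgebra F P)) u = (g • χ) a • u := hu (conjA g⁻¹ a)
      rw [show g • χ = χ from hg, hRcg, inv_inv] at h1
      have h2 := congrArg (ρ g) h1
      rwa [rho_cancel_inv, map_smul] at h2
    have hfix : ∀ u : V, (∀ q ∈ Q, ρ q u = u) → u = 0 := fix_zero ρ hP hpF hQ1 hQ2 h hfpf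
    have hQsum : ∀ u : V, ∑ q : Q, ρ (q : P) u = 0 := fun u => hfix _ fun q hq => by
      rw [map_sum]
      exact Fintype.sum_equiv (Equiv.mulLeft (⟨q, hq⟩ : Q)) _ _ fun r => (rho_mul ρ q r u).symm
    have he1 : ∀ u ∈ W, R (e χ : MonoidAlgebra F P) u = u := fun u hu => by
      rw [hu (e χ), show χ (e χ) = _ from congrFun (he χ) χ, if_pos rfl, one_smul]
    have he0 : ∀ g, g ∉ H → ∀ u ∈ W, R (cg g (e χ : MonoidAlgebra F P)) u = 0 := by
      intro g hg u hu
      have hne : g⁻¹ • χ ≠ χ := fun h' => hg (by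
        have h'' := congrArg (fun φ => g • φ) h'
        simp only [smul_inv_smul] at h''
        exact h''.symm)
      have h1 : R (cg g (e χ : MonoidAlgebra F P)) u = χ (conjA g (e χ)) • u := hu (conjA g (e χ))
      rw [h1, show χ (conjA g (e χ)) = (g⁻¹ • χ) (e χ) by rw [smul_char_apply, inv_inv],
        show (g⁻¹ • χ) (e χ) = _ from congrFun (he χ) (g⁻¹ • χ), if_neg hne, zero_smul]
    have c : Cfg ρ H Q W :=
      { le := hQH
        norm := fun g _ q hq => (inferInstance : Q.Normal).conj_mem q hq g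
        exists_notMem := by
          obtain ⟨g, hg, hgχ⟩ := stab_ne hF hP hQ1 hQ2 h χ
          exact ⟨g, hgχ, hg⟩
        exists_ne := ⟨_, hwW, hw⟩
        inv := hinv
        fpf := fun x _ hx u _ => hfpf x hx u
        fix := fun u _ => hfix u
        inner := by
          intro s hs hcomm
          obtain ⟨σ, hσ, rfl⟩ := exists_lift_supp ρ hs
          set σ' := (Nat.card Q : F)⁻¹ • ∑ q : Q, cg (q : P) σ with hσ'
          have hmem : σ' ∈ alg F Q Q := by
            refine mem_alg.mpr ⟨Submodule.smul_mem _ _ (Submodule.sum_mem _ fun q _ =>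
              cg_mem_supp (fun t ht => Q.mul_mem (Q.mul_mem q.2 ht) (Q.inv_mem q.2)) hσ),
              fun d hd => ?_⟩
            show cgHom d σ' = σ'
            rw [hσ', map_smul, map_sum]
            refine congrArg _ (Fintype.sum_equiv (Equiv.mulLeft (⟨d, hd⟩ : Q)) _ _ fun r => ?_)
            exact cg_cg d r σ
          refine ⟨χ ⟨σ', hmem⟩, fun u hu => ?_⟩
          rw [← hu ⟨σ', hmem⟩]
          show R σ u = R σ' u
          rw [hσ', map_smul, LinearMap.smul_apply, map_sum, LinearMap.sum_apply]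
          have hq : ∀ q : Q, R (cg (q : P) σ) u = R σ u := fun q => by
            have hqu := hinv _ (hQH (Q.inv_mem q.2)) u hu
            rw [hRcg, ← hcomm _ q.2 _ hqu, rho_cancel_inv]
          simp only [hq, sum_const, card_univ, ← Nat.card_eq_fintype_card]
          rw [← Nat.cast_smul_eq_nsmul F, smul_smul, inv_mul_cancel₀ (hsubF Q), one_smul]
        outer := by
          intro s hs hcomm u hu
          obtain ⟨σ, hσ, rfl⟩ := exists_lift_supp ρ hs
          set a := ∑ g : P, cg g (σ * (e χ : MonoidAlgebra F P)) with ha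
          have hsupp : a ∈ supp F (Q : Set P)ᶜ := by
            refine Submodule.sum_mem _ fun g _ => ?_
            refine cg_mem_supp (T := (Q : Set P)ᶜ) (T' := (Q : Set P)ᶜ) (fun t ht hmem => ht ?_)
              (mul_mem_supp (fun x hx y hy hmem => hx.2 ((Subgroup.mul_mem_cancel_right Q hy).mp hmem))
                hσ (e χ).2.1)
            have h' : g⁻¹ * (g * t * g⁻¹) * g⁻¹⁻¹ ∈ Q :=
              (inferInstance : Q.Normal).conj_mem _ hmem g⁻¹
            simpa [mul_assoc] using h'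
          have hconj : ∀ d : P, cg d a = a := fun d => by
            show cgHom d a = a
            rw [ha, map_sum]
            exact Fintype.sum_equiv (Equiv.mulLeft d) _ _ fun g => cg_cg d g _
          have hright : ∀ q ∈ Q, a * MonoidAlgebra.of F P q = a := by
            intro q hq
            apply MonoidAlgebra.coeff_injective
            ext g
            rw [MonoidAlgebra.of_apply, MonoidAlgebra.coeff_mul_single_eq_coeff_mul (m₁ := g)
              (g * q⁻¹) (fun m _ => ⟨fun h' => by rw [← h']; group, fun h' => by rw [h']; group⟩),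
              mul_one]
            by_cases hg : g ∈ Q
            · rw [coeff_eq_zero_of_mem_supp hsupp (fun h' => h' (Q.mul_mem hg (Q.inv_mem hq))),
                coeff_eq_zero_of_mem_supp hsupp (fun h' => h' hg)]
            · obtain ⟨x, hx⟩ := h g hg q⁻¹ (Q.inv_mem hq)
              rw [← hx]
              conv_rhs => rw [← hconj x⁻¹, coeff_cg, inv_inv]
          have hzero : R a u = 0 := by
            have h1 : (Nat.card Q : F) • R a u = R a (∑ q : Q, ρ (q : P) u) := by
              rw [map_sum (R a), sum_congr rfl (fun (q : Q) _ =>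
                (by rw [← hRof, ← hRmul, hright _ q.2] : R a (ρ (q : P) u) = R a u)), sum_const,
                card_univ, ← Nat.card_eq_fintype_card, Nat.cast_smul_eq_nsmul]
            rw [hQsum, map_zero] at h1
            exact (smul_eq_zero.mp h1).resolve_left (hsubF Q)
          have hval : R a u = ∑ g : P, if g ∈ H then R σ u else 0 := by
            rw [ha, map_sum, LinearMap.sum_apply]
            refine sum_congr rfl fun g _ => ?_
            split
            · next hg =>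
              have hgu := hinv _ (H.inv_mem hg) u hu
              rw [hRcg, hRmul, he1 _ hgu, ← hcomm g hg _ hgu, rho_cancel_inv]
            · next hg => rw [cg_mul, hRmul, he0 g hg u hu, map_zero]
          rw [hval, sum_ite, sum_const_zero, add_zero, sum_const, ← Fintype.card_subtype,
            ← Nat.card_eq_fintype_card, ← Nat.cast_smul_eq_nsmul F] at hzero
          exact (smul_eq_zero.mp hzero).resolve_left (hsubF H) }
    obtain ⟨hp2, hsign⟩ := c.sign ρ hP hpF
    refine ⟨hp2, fun q hq => ?_⟩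
    obtain ⟨a, ha, hav⟩ := hsign q hq
    rw [hav _ hwW, map_smul, hav _ hwW, smul_smul, ha, one_smul]
  have hdec : ∀ w : V, w = ∑ χ, R (e χ : MonoidAlgebra F P) w := fun w => by
    rw [← LinearMap.sum_apply, ← map_sum, ← AddSubmonoidClass.coe_finsetSum, hsum,
      OneMemClass.coe_one, map_one]
    rfl
  by_cases hv : ∀ χ, R (e χ : MonoidAlgebra F P) v = 0
  · exact Or.inl (by rw [hdec v, sum_eq_zero fun χ _ => hv χ])
  push Not at hv
  obtain ⟨χ, hχ⟩ := hv
  refine Or.inr ⟨(main χ v hχ).1, fun q hq w => ?_⟩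
  calc ρ q (ρ q w) = ρ q (ρ q (∑ ψ, R (e ψ : MonoidAlgebra F P) w)) := by rw [← hdec w]
    _ = ∑ ψ, R (e ψ : MonoidAlgebra F P) w := ?_
    _ = w := (hdec w).symm
  rw [map_sum, map_sum]
  refine sum_congr rfl fun ψ _ => ?_
  by_cases h0 : R (e ψ : MonoidAlgebra F P) w = 0
  · rw [h0, map_zero, map_zero]
  · exact (main ψ w h0).2 q hq

/-- For `p = 2` the square of an element outside `Q` whose square is in `Q` negates. -/
theorem neg_of_sq [IsAlgClosed F] (hP : IsPGroup 2 P) (h2 : (2 : F) ≠ 0)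
    {Q : Subgroup P} [Q.Normal] (hQ1 : Q ≠ ⊥) (hQ2 : Q ≠ ⊤) (h : Cam Q)
    (hfpf : ∀ x, x ∉ Q → ∀ v, ρ x v = v → v = 0) {y : P} (hy : y ∉ Q) (hy2 : y * y ∈ Q) (v : V) :
    ρ (y * y) v = -v := by
  haveI : Fact (Nat.Prime 2) := ⟨Nat.prime_two⟩
  have hsq : ∀ q ∈ Q, ∀ w : V, ρ q (ρ q w) = w := by
    intro q hq w
    rcases module_sign ρ hP (by exact_mod_cast h2) hQ1 hQ2 h hfpf w with h0 | ⟨-, h1⟩
    · rw [h0, map_zero, map_zero]
    · exact h1 q hq w
  set u := v + ρ (y * y) v with hu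
  suffices hu0 : u = 0 by
    rw [hu] at hu0
    exact eq_neg_of_add_eq_zero_right hu0
  refine fix_zero ρ hP (by exact_mod_cast h2) hQ1 hQ2 h hfpf u fun q hq => ?_
  -- involutions of Q commute on V
  have hcomm : ∀ a ∈ Q, ∀ b ∈ Q, ∀ w, ρ a (ρ b w) = ρ b (ρ a w) := by
    intro a ha b hb w
    calc ρ a (ρ b w) = ρ b (ρ b (ρ a (ρ b (ρ a (ρ a w))))) := by rw [hsq a ha, hsq b hb]
      _ = ρ b (ρ (b * a) (ρ (b * a) (ρ a w))) := by simp only [rho_mul]
      _ = ρ b (ρ a w) := by rw [hsq _ (Q.mul_mem hb ha)]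
  have hyu : ∀ b ∈ Q, ρ (y * y) (ρ b u) = ρ b u := by
    intro b hb
    rw [hcomm _ hy2 _ hb, hu, map_add, hsq _ hy2, add_comm]
  have hneg : ∀ g, g ∉ Q → ∀ w, ρ g (ρ g w) = w → ρ g w = -w := by
    intro g hg w hw
    have h1 : w + ρ g w = 0 := hfpf g hg _ (by rw [map_add, hw, add_comm])
    exact eq_neg_of_add_eq_zero_right h1
  have hy1 : ∀ w : V, ρ (y * y) w = w → ρ y w = -w := fun w hw =>
    hneg y hy w (by rw [← rho_mul]; exact hw)
  have hb : ρ y (ρ q u) = -ρ q u := hy1 _ (hyu q hq)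
  have hub : ρ y u = -u := hy1 u (by simpa [rho_one] using hyu 1 Q.one_mem)
  have hyq : ρ (y * q) u = -ρ q u := by rw [rho_mul, hb]
  have hyq2 : ρ (y * q) (ρ (y * q) u) = u := by
    rw [hyq, map_neg, rho_mul, hsq q hq, hub, neg_neg]
  have hgoal := hneg (y * q) (fun h' => hy ((Subgroup.mul_mem_cancel_right Q hq).mp h')) u hyq2
  rw [hyq] at hgoal
  exact neg_inj.mp hgoal

end CfsgLib.FgsC.CaminaKernel
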