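import Cfsg.Agent.Lib.PGroups.UniqueOrderP
import Mathlib

/-!
Two lemmas about elements of prime order: commuting operators without fixed vectors, and p-groups
whose elements of order p lie in a central cyclic subgroup.
-/

set_option autoImplicit false
set_option linter.unusedSectionVars false
set_option linter.style.haveILetI false

namespace CfsgLib.FgsC.CaminaKernel

open Finset

section Pair

variable {F V : Type*} [Field F] [AddCommGroup V] [Module F V]

theorem sum_pow_apply_eq_zero {p : ℕ} (Z : Module.End F V) (hZ : Z ^ p = 1)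
    (hfix : ∀ v, Z v = v → v = 0) (v : V) : (∑ i ∈ range p, Z ^ i) v = 0 := by
  refine hfix _ ?_
  have h := mul_geom_sum Z p
  rw [hZ, sub_self, sub_mul, one_mul, sub_eq_zero] at h
  exact LinearMap.congr_fun h v

/-- Two commuting operators of order `p` whose products have no fixed vector act on `0`. -/
theorem pair_fixed {p : ℕ} (hp : p.Prime) (hpF : (p : F) ≠ 0) (X Y : Module.End F V)
    (hXY : Commute X Y) (hX : X ^ p = 1) (hY : Y ^ p = 1) (hY1 : ∀ v, Y v = v → v = 0)
    (hX1 : ∀ k < p, ∀ v, (X * Y ^ k) v = v → v = 0) (v : V) : v = 0 := by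
  have h1 : ∀ k ∈ range p, (∑ i ∈ range p, X ^ i * (Y ^ i) ^ k) v = 0 := by
    intro k hk
    have e : ∀ i, X ^ i * (Y ^ i) ^ k = (X * Y ^ k) ^ i := fun i => by
      rw [(hXY.pow_right k).mul_pow, ← pow_mul, ← pow_mul, mul_comm i k]
    simp only [e]
    refine sum_pow_apply_eq_zero _ ?_ (hX1 k (mem_range.mp hk)) v
    rw [(hXY.pow_right k).mul_pow, hX, ← pow_mul, mul_comm k p, pow_mul, hY, one_pow, one_mul]
  have h2 : ∀ i ∈ range p, i ≠ 0 → ∀ w, (∑ k ∈ range p, (Y ^ i) ^ k) w = 0 := by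
    intro i hi hi0 w
    refine sum_pow_apply_eq_zero _ (by rw [← pow_mul, mul_comm, pow_mul, hY, one_pow]) ?_ w
    intro u hu
    refine hY1 u ?_
    obtain ⟨j, hj⟩ : ∃ j, i * j % p = 1 % p := by
      haveI := Fact.mk hp
      have hne : (i : ZMod p) ≠ 0 := fun h => by
        rw [ZMod.natCast_eq_zero_iff] at h
        exact absurd (Nat.le_of_dvd (Nat.pos_of_ne_zero hi0) h) (not_le.mpr (mem_range.mp hi))
      refine ⟨((i : ZMod p)⁻¹).val, (ZMod.natCast_eq_natCast_iff' _ _ p).mp ?_⟩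
      rw [Nat.cast_mul, ZMod.natCast_zmod_val, mul_inv_cancel₀ hne, Nat.cast_one]
    have hfixpow : ∀ n : ℕ, ((Y ^ i) ^ n) u = u := by
      intro n
      induction n with
      | zero => simp
      | succ n ih => rw [pow_succ, Module.End.mul_apply, hu, ih]
    have e : Y ^ (i * j) = Y := by
      rw [← Nat.mod_add_div (i * j) p, hj, pow_add, pow_mul, hY, one_pow, mul_one,
        Nat.mod_eq_of_lt hp.one_lt, pow_one]
    conv_lhs => rw [← e, pow_mul]
    exact hfixpow j
  have h3 : (∑ i ∈ range p, ∑ k ∈ range p, X ^ i * (Y ^ i) ^ k) v = 0 := by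
    rw [sum_comm]
    rw [LinearMap.sum_apply]
    exact sum_eq_zero fun k hk => h1 k hk
  rw [LinearMap.sum_apply, sum_eq_single_of_mem 0 (mem_range.mpr hp.pos)] at h3
  · simp only [pow_zero, one_pow, mul_one, sum_const, card_range, LinearMap.smul_apply,
      Module.End.one_apply] at h3
    rw [← Nat.cast_smul_eq_nsmul F] at h3
    exact (smul_eq_zero.mp h3).resolve_left hpF
  · intro i hi hi0
    rw [← mul_sum, Module.End.mul_apply, h2 i hi hi0, map_zero]

end Pair

section Group

variable {G : Type*} [Group G]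

theorem mul_pow_of_central {x y c : G} (hc : y * x = x * y * c) (hcx : Commute c x)
    (hcy : Commute c y) (n : ℕ) : (x * y) ^ n = x ^ n * y ^ n * c ^ n.choose 2 := by
  have hyx : ∀ n, y ^ n * x = x * y ^ n * c ^ n := by
    intro n
    induction n with
    | zero => simp
    | succ n ih =>
      calc y ^ (n + 1) * x = y ^ n * (y * x) := by rw [pow_succ]; group
        _ = (y ^ n * x) * (y * c) := by rw [hc]; group
        _ = x * y ^ n * (c ^ n * y) * c := by rw [ih]; group
        _ = x * y ^ n * (y * c ^ n) * c := by rw [(hcy.pow_left n).eq]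
        _ = _ := by rw [pow_succ, pow_succ]; group
  induction n with
  | zero => simp
  | succ n ih =>
    have hck : ∀ k, Commute (c ^ k) x ∧ Commute (c ^ k) y := fun k =>
      ⟨hcx.pow_left k, hcy.pow_left k⟩
    calc (x * y) ^ (n + 1) = x ^ n * y ^ n * (c ^ n.choose 2 * x) * y := by
          rw [pow_succ, ih]; group
      _ = x ^ n * (y ^ n * x) * (c ^ n.choose 2 * y) := by rw [(hck _).1.eq]; group
      _ = x ^ n * x * y ^ n * (c ^ n * y) * c ^ n.choose 2 := by
          rw [hyx, (hck (n.choose 2)).2.eq]; group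
      _ = x ^ n * x * y ^ n * (y * c ^ n) * c ^ n.choose 2 := by rw [(hck n).2.eq]
      _ = _ := by
          rw [Nat.choose_succ_succ', Nat.choose_one_right, pow_succ, pow_succ, pow_add]; group

theorem mem_zpowers_of_dvd [Finite G] [IsCyclic G] {x y : G} (h : orderOf x ∣ orderOf y) :
    x ∈ Subgroup.zpowers y := by
  classical
  haveI := Fintype.ofFinite G
  have hsub : (Subgroup.zpowers y : Set G).toFinset ⊆ univ.filter fun a => a ^ orderOf y = 1 := by
    intro a ha
    rw [Set.mem_toFinset] at ha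
    obtain ⟨k, rfl⟩ := Subgroup.mem_zpowers_iff.mp ha
    simp only [mem_filter, mem_univ, true_and]
    rw [← zpow_natCast, zpow_comm, zpow_natCast, pow_orderOf_eq_one, one_zpow]
  have heq := eq_of_subset_of_card_le hsub ((IsCyclic.card_pow_eq_one_le (orderOf_pos y)).trans
    (by rw [Set.toFinset_card, ← Nat.card_eq_fintype_card]; exact (Nat.card_zpowers y).ge))
  have : x ∈ (Subgroup.zpowers y : Set G).toFinset := by
    rw [heq]; simp [orderOf_dvd_iff_pow_eq_one.mp h]
  simpa using this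

/-- A `p`-group whose elements of order `p` lie in a central cyclic subgroup, which has an element
of order 4 if `p = 2`, is commutative. -/
theorem commute_of_central_cyclic [Finite G] {p : ℕ} [hp : Fact p.Prime] (hG : IsPGroup p G)
    (C : Subgroup G) [IsCyclic C] (hC : C ≤ Subgroup.center G) (h1 : ∀ x : G, x ^ p = 1 → x ∈ C)
    (h2 : p = 2 → ∃ i ∈ C, orderOf i = 4) : ∀ a b : G, Commute a b := by
  suffices H : ∀ n, ∀ L : Subgroup G, Nat.card L ≤ n → C ≤ L →
      ∀ a ∈ L, ∀ b ∈ L, Commute a b from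
    fun a b => H _ ⊤ le_rfl le_top a (Subgroup.mem_top a) b (Subgroup.mem_top b)
  intro n
  induction n with
  | zero => intro L hL; exact absurd hL (not_le.mpr Nat.card_pos)
  | succ n ih =>
  intro L hL hCL a ha b hb
  by_contra hab
  haveI : Nontrivial G := ⟨⟨a, b, fun h => hab (h ▸ Commute.refl a)⟩⟩
  obtain ⟨z, hz⟩ := exists_prime_orderOf_dvd_card' (G := G) p (by
    obtain ⟨k, hk⟩ := IsPGroup.iff_card.mp hG
    rw [hk]
    refine dvd_pow_self p fun h0 => ?_
    rw [h0, pow_zero] at hk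
    exact absurd (Finite.one_lt_card : 1 < Nat.card G) (by rw [hk]; exact lt_irrefl 1))
  have hzC : z ∈ C := h1 z (by rw [← hz]; exact pow_orderOf_eq_one z)
  have key : ∀ x ∈ L, ∃ M : Subgroup G, M ≤ L ∧ x ∈ M ∧ C ≤ M ∧ Nat.card M ≤ n ∧
      (∀ l ∈ L, ∀ m ∈ M, l * m * l⁻¹ ∈ M) ∧ (∀ l ∈ L, l ^ p ∈ M) ∧
      ∀ u ∈ L, ∀ v ∈ L, u * v * u⁻¹ * v⁻¹ ∈ M := by
    intro x hx
    set A : Subgroup L := (C ⊔ Subgroup.zpowers x).subgroupOf L with hA
    have hAne : A ≠ ⊤ := by
      intro h
      have hle : L ≤ C ⊔ Subgroup.zpowers x := Subgroup.subgroupOf_eq_top.mp h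
      have hcomm : C ⊔ Subgroup.zpowers x ≤
          Subgroup.centralizer ((C ⊔ Subgroup.zpowers x : Subgroup G) : Set G) := by
        have h' : ∀ y ∈ C ⊔ Subgroup.zpowers x, Commute y x := by
          intro y hy
          have : C ⊔ Subgroup.zpowers x ≤ Subgroup.centralizer ({x} : Set G) := sup_le
            (fun c hc => Subgroup.mem_centralizer_singleton_iff.mpr
              (Subgroup.mem_center_iff.mp (hC hc) x).symm)
            (Subgroup.zpowers_le.mpr (Subgroup.mem_centralizer_singleton_iff.mpr rfl))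
          exact Subgroup.mem_centralizer_singleton_iff.mp (this hy)
        refine sup_le (fun c hc => Subgroup.mem_centralizer_iff.mpr fun y _ =>
          Subgroup.mem_center_iff.mp (hC hc) y) (Subgroup.zpowers_le.mpr ?_)
        exact Subgroup.mem_centralizer_iff.mpr fun y hy => (h' y hy).eq
      exact hab (Subgroup.mem_centralizer_iff.mp (hcomm (hle ha)) b (hle hb)).symm
    obtain ⟨M₀, hM₀, hAM⟩ := (eq_top_or_exists_le_coatom A).resolve_left hAne
    have hL' : IsPGroup p L := hG.to_subgroup L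
    haveI : Group.IsNilpotent L := hL'.isNilpotent
    haveI hn : M₀.Normal :=
      Subgroup.NormalizerCondition.normal_of_coatom M₀ Group.normalizerCondition_of_isNilpotent hM₀
    have hidx : Nat.card (L ⧸ M₀) = p := by
      have hq : IsPGroup p (L ⧸ M₀) := hL'.to_quotient M₀
      haveI : Nontrivial (L ⧸ M₀) := QuotientGroup.nontrivial_iff.mpr hM₀.1
      obtain ⟨t, ht⟩ := exists_prime_orderOf_dvd_card' (G := L ⧸ M₀) p (by
        obtain ⟨k, hk, hk'⟩ := hq.nontrivial_iff_card.mp inferInstance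
        exact hk' ▸ dvd_pow_self p hk.ne')
      have hle : M₀ ≤ (Subgroup.zpowers t).comap (QuotientGroup.mk' M₀) := by
        intro m hm
        rw [Subgroup.mem_comap, show QuotientGroup.mk' M₀ m = 1 from
          (QuotientGroup.eq_one_iff m).mpr hm]
        exact (Subgroup.zpowers t).one_mem
      have ht1 : t ≠ 1 := fun h => by
        rw [h, orderOf_one] at ht
        exact hp.out.ne_one ht.symm
      rcases hM₀.le_iff.mp hle with h | h
      · rw [← ht, ← Nat.card_zpowers,
          ← Subgroup.map_comap_eq_self_of_surjective (QuotientGroup.mk'_surjective M₀)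
            (Subgroup.zpowers t), h,
          Subgroup.map_top_of_surjective _ (QuotientGroup.mk'_surjective M₀), Subgroup.card_top]
      · exfalso
        have h5 := congrArg (Subgroup.map (QuotientGroup.mk' M₀)) h
        rw [Subgroup.map_comap_eq_self_of_surjective (QuotientGroup.mk'_surjective M₀),
          QuotientGroup.map_mk'_self] at h5
        exact ht1 (Subgroup.mem_bot.mp (h5 ▸ Subgroup.mem_zpowers t))
    refine ⟨M₀.map L.subtype, Subgroup.map_subtype_le _, ⟨⟨x, hx⟩, hAM (Subgroup.mem_sup_right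
      (Subgroup.mem_zpowers x)), rfl⟩, fun c hc => ⟨⟨c, hCL hc⟩, hAM (Subgroup.mem_sup_left hc),
      rfl⟩, ?_, ?_, ?_, ?_⟩
    · have hlt : Nat.card M₀ < Nat.card L := by
        rcases lt_or_eq_of_le (Subgroup.card_le_card_group M₀) with h | h
        · exact h
        · exact absurd (Subgroup.eq_top_of_card_eq M₀ h) hM₀.1
      rw [Subgroup.card_map_of_injective L.subtype_injective]
      omega
    · rintro l hl _ ⟨m, hm, rfl⟩
      exact ⟨⟨l, hl⟩ * m * ⟨l, hl⟩⁻¹, hn.conj_mem m hm _, rfl⟩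
    · intro l hl
      refine ⟨⟨l, hl⟩ ^ p, (QuotientGroup.eq_one_iff _).mp ?_, rfl⟩
      rw [QuotientGroup.mk_pow, ← hidx, pow_card_eq_one']
    · intro u hu v hv
      refine ⟨⟨u, hu⟩ * ⟨v, hv⟩ * ⟨u, hu⟩⁻¹ * ⟨v, hv⟩⁻¹, (QuotientGroup.eq_one_iff _).mp ?_, rfl⟩
      haveI : IsCyclic (L ⧸ M₀) := isCyclic_of_prime_card hidx
      letI := IsCyclic.commGroup (α := L ⧸ M₀)
      simp only [QuotientGroup.mk_mul, QuotientGroup.mk_inv]
      rw [mul_comm (QuotientGroup.mk (⟨u, hu⟩ : L) : L ⧸ M₀)]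
      group
  obtain ⟨M₁, hM₁L, ha₁, hCM₁, hn₁, -, hp₁, hc₁⟩ := key a ha
  obtain ⟨M₂, -, hb₂, hCM₂, hn₂, -, hp₂, hc₂⟩ := key b hb
  have hab₁ := ih M₁ hn₁ hCM₁
  have hab₂ := ih M₂ hn₂ hCM₂
  set A := M₁ ⊓ M₂ with hA
  haveI : IsMulCommutative A := ⟨⟨fun u v => Subtype.ext (hab₁ u u.2.1 v v.2.1)⟩⟩
  have hAcyc : IsCyclic A := PGroups.isCyclic_of_abelian_of_unique (hG.to_subgroup A)
    (z := ⟨z, hCM₁ hzC, hCM₂ hzC⟩) (fun y hy => by
      have hyC : (y : G) ∈ C := h1 y (congrArg Subtype.val hy)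
      have := mem_zpowers_of_dvd (x := (⟨y, hyC⟩ : C)) (y := ⟨z, hzC⟩) (by
        simp only [Subgroup.orderOf_mk, hz]
        exact orderOf_dvd_of_pow_eq_one (congrArg Subtype.val hy))
      obtain ⟨k, hk⟩ := Subgroup.mem_zpowers_iff.mp this
      exact Subgroup.mem_zpowers_iff.mpr ⟨k, Subtype.ext (congrArg Subtype.val hk :)⟩)
    (Subtype.ext (by
      show z ^ p = 1
      rw [← hz]; exact pow_orderOf_eq_one z))
  set c := (b : G)⁻¹ * a⁻¹ * b * a with hcdef
  have hcL : c ∈ A := by
    constructor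
    · have := hc₁ (b⁻¹) (L.inv_mem hb) (a⁻¹) (L.inv_mem ha)
      simpa [hcdef] using this
    · have := hc₂ (b⁻¹) (L.inv_mem hb) (a⁻¹) (L.inv_mem ha)
      simpa [hcdef] using this
  have hcA : ∀ u ∈ A, Commute u a ∧ Commute u b := fun u hu =>
    ⟨hab₁ u hu.1 a ha₁, hab₂ u hu.2 b hb₂⟩
  have hca := hcA c hcL
  have hba : b * a = a * b * c := by rw [hcdef]; group
  have hcp : c ^ p = 1 := by
    have hcm : ∀ k : ℕ, b * a ^ k = a ^ k * b * c ^ k := by
      intro k
      induction k with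
      | zero => simp
      | succ k ih =>
        calc b * a ^ (k + 1) = (b * a ^ k) * a := by rw [pow_succ]; group
          _ = a ^ k * b * (c ^ k * a) := by rw [ih]; group
          _ = a ^ k * (b * a) * c ^ k := by rw [(hca.1.pow_left k).eq]; group
          _ = _ := by rw [hba, pow_succ, pow_succ']; group
    have h3 := (hcA (a ^ p) ⟨hp₁ a ha, hp₂ a ha⟩).2
    have h4 := hcm p
    rw [← h3.eq, left_eq_mul] at h4
    exact h4
  have hcC : c ∈ C := h1 c hcp
  have hc1 : c ≠ 1 := fun h => hab (by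
    rw [h, mul_one] at hba
    exact hba.symm)
  -- replace one of the generators so that its p-th power is trivial
  suffices main : ∀ x ∈ L, ∀ y ∈ L, ∀ d : G, d ∈ C → d ^ p = 1 → y * x = x * y * d →
      x ^ p * y ^ p = 1 → x * y ∈ C by
    have hap : a ^ p ∈ A := ⟨hp₁ a ha, hp₂ a ha⟩
    have hbp : b ^ p ∈ A := ⟨hp₁ b hb, hp₂ b hb⟩
    haveI := hAcyc
    have hCA : ∀ d ∈ C, ∀ g, Commute d g := fun d hd g =>
      (Subgroup.mem_center_iff.mp (hC hd) g).symm
    have hpow : ∀ u v d : G, v * u = u * v * d → Commute d u → Commute d v → ∀ k : ℕ,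
        v * u ^ k = u ^ k * v * d ^ k := by
      intro u v d h hu hv k
      induction k with
      | zero => simp
      | succ k ih =>
        calc v * u ^ (k + 1) = (v * u ^ k) * u := by rw [pow_succ]; group
          _ = u ^ k * v * (d ^ k * u) := by rw [ih]; group
          _ = u ^ k * (v * u) * d ^ k := by rw [(hu.pow_left k).eq]; group
          _ = _ := by rw [h, pow_succ, pow_succ']; group
    have hsolve : ∀ u ∈ L, ∀ v ∈ L, ∀ d : G, d ∈ C → d ≠ 1 → d ^ p = 1 → v * u = u * v * d →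
        u ^ p ∈ A → v ^ p ∈ A → ∀ (hu : u ^ p ∈ A) (hv : v ^ p ∈ A),
        (⟨v ^ p, hv⟩ : A) ∉ Subgroup.zpowers ⟨u ^ p, hu⟩ := by
      intro u hu v hv d hd hd1 hdp hvu _ _ hup hvp hmem
      obtain ⟨k, hk⟩ := mem_powers_iff_mem_zpowers.mpr hmem
      obtain ⟨e, he⟩ : ∃ e, e = orderOf u - k % orderOf u := ⟨_, rfl⟩
      have hue : u ^ e * u ^ k = 1 := by
        rw [← pow_add, ← orderOf_dvd_iff_pow_eq_one, he]
        refine ⟨1 + k / orderOf u, ?_⟩
        have h' := Nat.mod_add_div k (orderOf u)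
        have h'' := (Nat.mod_lt k (orderOf_pos u)).le
        rw [mul_add, mul_one]
        omega
      have hrel := hpow u v d hvu (hCA d hd u) (hCA d hd v) e
      have hmemC : u ^ e * v ∈ C := main (u ^ e) (L.pow_mem hu e) v hv (d ^ e) (C.pow_mem hd e)
        (by rw [← pow_mul, mul_comm, pow_mul, hdp, one_pow]) hrel (by
          have hk' : (u ^ p) ^ k = v ^ p := congrArg Subtype.val hk
          rw [← hk', ← pow_mul, ← pow_mul, mul_comm e p, ← pow_add, ← mul_add, mul_comm p,
            pow_mul, pow_add, hue, one_pow])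
      have hvc : Commute v u := by
        have h1' : Commute ((u ^ e)⁻¹ * (u ^ e * v)) u :=
          ((Commute.refl u).pow_left e).inv_left.mul_left (hCA _ hmemC u)
        rwa [inv_mul_cancel_left] at h1'
      rw [hvc.eq, left_eq_mul] at hvu
      exact hd1 hvu
    rcases le_total (orderOf (⟨b ^ p, hbp⟩ : A)) (orderOf (⟨a ^ p, hap⟩ : A)) with h | h
    · refine hsolve a ha b hb c hcC hc1 hcp hba hap hbp hap hbp (mem_zpowers_of_dvd ?_)
      obtain ⟨i, hi⟩ := IsPGroup.iff_orderOf.mp (hG.to_subgroup A) ⟨b ^ p, hbp⟩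
      obtain ⟨j, hj⟩ := IsPGroup.iff_orderOf.mp (hG.to_subgroup A) ⟨a ^ p, hap⟩
      rw [hi, hj] at h ⊢
      exact Nat.pow_dvd_pow p ((Nat.pow_le_pow_iff_right hp.out.one_lt).mp h)
    · refine hsolve b hb a ha c⁻¹ (C.inv_mem hcC) (by simpa using hc1)
        (by rw [inv_pow, hcp, inv_one]) ?_ hbp hap hbp hap (mem_zpowers_of_dvd ?_)
      · rw [hba]; group
      obtain ⟨i, hi⟩ := IsPGroup.iff_orderOf.mp (hG.to_subgroup A) ⟨b ^ p, hbp⟩
      obtain ⟨j, hj⟩ := IsPGroup.iff_orderOf.mp (hG.to_subgroup A) ⟨a ^ p, hap⟩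
      rw [hi, hj] at h ⊢
      exact Nat.pow_dvd_pow p ((Nat.pow_le_pow_iff_right hp.out.one_lt).mp h)
  intro x hx y hy d hd hdp hyx hxy
  have hCc : ∀ u : G, Commute d u := fun u => (Subgroup.mem_center_iff.mp (hC hd) u).symm
  have hmul := mul_pow_of_central hyx (hCc x) (hCc y) p
  rw [hxy, one_mul] at hmul
  rcases eq_or_ne d 1 with rfl | hd1
  · exact h1 _ (by rw [hmul, one_pow])
  rcases hp.out.eq_two_or_odd with h | h
  · obtain ⟨i, hiC, hi⟩ := h2 h
    subst h
    rw [show Nat.choose 2 2 = 1 from rfl, pow_one] at hmul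
    have hid : i ^ 2 = d := by
      have hmem := mem_zpowers_of_dvd (x := (⟨i ^ 2, C.pow_mem hiC 2⟩ : C)) (y := ⟨d, hd⟩) (by
        simp only [Subgroup.orderOf_mk, orderOf_eq_prime hdp hd1]
        refine orderOf_dvd_of_pow_eq_one ?_
        rw [← pow_mul, show 2 * 2 = orderOf i by rw [hi], pow_orderOf_eq_one])
      obtain ⟨k, hk⟩ := Subgroup.mem_zpowers_iff.mp hmem
      have hk' : d ^ k = i ^ 2 := congrArg Subtype.val hk
      rcases Int.even_or_odd k with ⟨j, rfl⟩ | ⟨j, rfl⟩
      · exfalso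
        rw [← two_mul, zpow_mul, zpow_ofNat, hdp, one_zpow] at hk'
        have := orderOf_dvd_of_pow_eq_one hk'.symm
        rw [hi] at this
        omega
      · rw [zpow_add_one, zpow_mul, zpow_ofNat, hdp, one_zpow, one_mul] at hk'
        exact hk'.symm
    have hmem : x * y * i ∈ C := h1 _ (by
      rw [(show Commute (x * y) i from (Subgroup.mem_center_iff.mp (hC hiC) _)).mul_pow, hmul, hid,
        ← sq, hdp])
    exact (Subgroup.mul_mem_cancel_right C hiC).mp hmem
  · refine h1 _ ?_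
    have hdvd : p ∣ p.choose 2 := hp.out.dvd_choose_self two_ne_zero (by
      have := hp.out.two_le; omega)
    obtain ⟨k, hk⟩ := hdvd
    rw [hmul, hk, pow_mul, hdp, one_pow]

end Group

end CfsgLib.FgsC.CaminaKernel
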