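import Cfsg.Agent.Lib.FgsC.CaminaKernel.OrderP
import Cfsg.Agent.Lib.PGroups.Basic

/-!
A p-group `H` acting on `W`, no element outside the normal subgroup `Q` fixing a nonzero vector,
with only scalars commuting with `Q` in the span of `Q` and nothing commuting with `H` in the span
of `H \ Q`: then `p = 2` and `Q` acts on `W` by signs.
-/

set_option autoImplicit false
set_option linter.unusedSectionVars false
set_option linter.style.haveILetI false

namespace CfsgLib.FgsC.CaminaKernel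

open Finset

variable {F V P : Type*} [Field F] [AddCommGroup V] [Module F V] [Group P]
  (ρ : Representation F P V)

theorem rho_mul (a b : P) (v : V) : ρ (a * b) v = ρ a (ρ b v) := by
  rw [map_mul]; rfl

theorem rho_one (v : V) : ρ 1 v = v := by rw [map_one]; rfl

theorem rho_inv_cancel (a : P) (v : V) : ρ a⁻¹ (ρ a v) = v := by
  rw [← rho_mul, inv_mul_cancel, rho_one]

theorem rho_cancel_inv (a : P) (v : V) : ρ a (ρ a⁻¹ v) = v := by
  rw [← rho_mul, mul_inv_cancel, rho_one]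

/-- The hypotheses. -/
structure Cfg (H Q : Subgroup P) (W : Submodule F V) : Prop where
  le : Q ≤ H
  norm : ∀ h ∈ H, ∀ q ∈ Q, h * q * h⁻¹ ∈ Q
  exists_notMem : ∃ x ∈ H, x ∉ Q
  exists_ne : ∃ v ∈ W, v ≠ 0
  inv : ∀ h ∈ H, ∀ v ∈ W, ρ h v ∈ W
  fpf : ∀ x ∈ H, x ∉ Q → ∀ v ∈ W, ρ x v = v → v = 0
  fix : ∀ v ∈ W, (∀ q ∈ Q, ρ q v = v) → v = 0
  inner : ∀ s ∈ Submodule.span F (ρ '' (Q : Set P)),
    (∀ q ∈ Q, ∀ v ∈ W, s (ρ q v) = ρ q (s v)) → ∃ c : F, ∀ v ∈ W, s v = c • v
  outer : ∀ s ∈ Submodule.span F (ρ '' ((H : Set P) \ Q)),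
    (∀ h ∈ H, ∀ v ∈ W, s (ρ h v) = ρ h (s v)) → ∀ v ∈ W, s v = 0

theorem base [Finite P] {p : ℕ} [hp : Fact p.Prime] (hP : IsPGroup p P) (hpF : (p : F) ≠ 0)
    {H Q : Subgroup P} {W : Submodule F V} (c : Cfg ρ H Q W)
    (hsc : ∀ q ∈ Q, ∃ a : F, ∀ v ∈ W, ρ q v = a • v) :
    p = 2 ∧ ∀ q ∈ Q, ∃ a : F, a * a = 1 ∧ ∀ v ∈ W, ρ q v = a • v := by
  classical
  obtain ⟨v₀, hv₀, hv₀0⟩ := c.exists_ne
  set g : H →* Module.End F W :=
    { toFun := fun h => LinearMap.restrict (ρ (h : P)) (c.inv h h.2)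
      map_one' := LinearMap.ext fun w => Subtype.ext (by
        rw [LinearMap.restrict_coe_apply, Subgroup.coe_one, rho_one]; rfl)
      map_mul' := fun a b => LinearMap.ext fun w => Subtype.ext (by
        rw [LinearMap.restrict_coe_apply, Subgroup.coe_mul, rho_mul]; rfl) } with hg
  have hgapp : ∀ (h : H) (w : W), ((g h w : W) : V) = ρ (h : P) (w : V) := fun h w => rfl
  set G₁ := g.toHomUnits.range with hG₁
  set f : H →* G₁ := g.toHomUnits.rangeRestrict with hf
  have hfsurj : Function.Surjective f := g.toHomUnits.rangeRestrict_surjective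
  have hfval : ∀ h : H, ((f h : (Module.End F W)ˣ) : Module.End F W) = g h := fun h => rfl
  haveI : Finite G₁ := Finite.of_surjective f hfsurj
  have hG₁p : IsPGroup p G₁ := (hP.to_subgroup H).of_surjective f hfsurj
  set C : Subgroup G₁ := (Q.subgroupOf H).map f with hC
  choose a ha using hsc
  have hCsc : ∀ x : C, ∃ b : F, ∀ w : W,
      (((x : G₁) : (Module.End F W)ˣ) : Module.End F W) w = b • w := by
    rintro ⟨_, q, hq, rfl⟩
    exact ⟨a q hq, fun w => Subtype.ext (by rw [hfval, hgapp, ha q hq w w.2]; rfl)⟩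
  choose b hb using hCsc
  have huniq : ∀ b₁ b₂ : F, b₁ • v₀ = b₂ • v₀ → b₁ = b₂ := fun b₁ b₂ h => smul_left_injective F hv₀0 h
  let χ : C →* F :=
    { toFun := b
      map_one' := huniq _ _ (by
        have := congrArg Subtype.val (hb 1 ⟨v₀, hv₀⟩)
        simpa using this.symm)
      map_mul' := fun x y => huniq _ _ (by
        have h1 := congrArg Subtype.val (hb (x * y) ⟨v₀, hv₀⟩)
        have h2 : (((x * y : C) : G₁) : (Module.End F W)ˣ).val ⟨v₀, hv₀⟩
            = (b x * b y) • (⟨v₀, hv₀⟩ : W) := by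
          rw [Subgroup.coe_mul, Subgroup.coe_mul, Units.val_mul, Module.End.mul_apply, hb y, map_smul,
            hb x, smul_smul, mul_comm]
        rw [h2] at h1
        simpa using h1.symm) }
  haveI : IsCyclic C := isCyclic_of_injective_ringHom χ fun x y h => by
    refine Subtype.ext (Subtype.ext (Units.ext (LinearMap.ext fun w => ?_)))
    rw [hb, hb]
    exact congrArg (· • w) h
  have hCc : C ≤ Subgroup.center G₁ := by
    intro x hx
    refine Subgroup.mem_center_iff.mpr fun y => Subtype.ext (Units.ext (LinearMap.ext fun w => ?_))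
    rw [Subgroup.coe_mul, Subgroup.coe_mul, Units.val_mul, Units.val_mul, Module.End.mul_apply,
      Module.End.mul_apply, hb ⟨x, hx⟩, hb ⟨x, hx⟩, map_smul]
  -- a scalar of order p
  obtain ⟨z, hzC, hz⟩ : ∃ z ∈ C, orderOf z = p := by
    have hCne : C ≠ ⊥ := by
      intro h
      refine hv₀0 (c.fix v₀ hv₀ fun q hq => ?_)
      have hmem : f ⟨q, c.le hq⟩ ∈ C := ⟨⟨q, c.le hq⟩, hq, rfl⟩
      rw [h, Subgroup.mem_bot] at hmem
      have := congrArg (fun u : G₁ =>
        ((((u : (Module.End F W)ˣ) : Module.End F W) ⟨v₀, hv₀⟩ : W) : V)) hmem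
      simpa [hfval, hgapp] using this
    obtain ⟨z, hz⟩ := exists_prime_orderOf_dvd_card' (G := C) p
      (PGroups.dvd_card_of_ne_bot hG₁p hCne)
    exact ⟨z, z.2, by rw [Subgroup.orderOf_coe, hz]⟩
  obtain ⟨q₀, hq₀, hq₀z⟩ := hzC
  have hz1 : z ≠ 1 := fun h => by
    rw [h, orderOf_one] at hz
    exact hp.out.ne_one hz.symm
  have hord : ∀ x : G₁, x ^ p = 1 → x ∈ C := by
    intro x hx
    obtain ⟨h₀, rfl⟩ := hfsurj x
    by_contra hxC
    have hhQ : (h₀ : P) ∉ Q := fun h => hxC ⟨h₀, h, rfl⟩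
    have hzp : z ^ p = 1 := by rw [← hz]; exact pow_orderOf_eq_one z
    have hcomm : Commute (g h₀) (g q₀) := by
      have h' : Commute (f h₀) z :=
        (Subgroup.mem_center_iff.mp (hCc ⟨q₀, hq₀, hq₀z⟩) (f h₀))
      rw [← hq₀z] at h'
      have h'' := congrArg (fun u : G₁ => ((u : (Module.End F W)ˣ) : Module.End F W)) h'.eq
      show g h₀ * g q₀ = g q₀ * g h₀
      simpa [hfval] using h''
    have hW : ∀ w : W, w = 0 := pair_fixed hp.out hpF (g h₀) (g q₀) hcomm
      (by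
        have h'' := congrArg (fun u : G₁ => ((u : (Module.End F W)ˣ) : Module.End F W)) hx
        simpa [hfval] using h'')
      (by
        rw [← hq₀z] at hzp
        have h'' := congrArg (fun u : G₁ => ((u : (Module.End F W)ˣ) : Module.End F W)) hzp
        simpa [hfval] using h'')
      (fun w hw => by
        obtain ⟨a', ha'⟩ : ∃ a', ∀ w : W, g q₀ w = a' • w :=
          ⟨b ⟨f q₀, q₀, hq₀, rfl⟩, fun w => hb ⟨f q₀, q₀, hq₀, rfl⟩ w⟩
        rw [ha'] at hw
        by_contra hw0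
        refine hz1 (hq₀z ▸ Subtype.ext (Units.ext (LinearMap.ext fun u => ?_)))
        rw [hfval, ha', show a' = 1 from smul_left_injective F hw0 (by simpa using hw), one_smul]
        rfl)
      (fun k _ w hw => Subtype.ext (c.fpf (((h₀ * q₀ ^ k : H) : H) : P) (SetLike.coe_mem _)
        (fun h => hhQ (by
          have h5 : ((q₀ ^ k : H) : P) ∈ Q := by
            rw [SubmonoidClass.coe_pow]; exact Q.pow_mem hq₀ k
          rw [Subgroup.coe_mul] at h
          exact (Subgroup.mul_mem_cancel_right Q h5).mp h))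
        w w.2 (by rw [← hgapp, map_mul, map_pow, hw])))
    exact hv₀0 (congrArg Subtype.val (hW ⟨v₀, hv₀⟩))
  have hnot : ¬ (p = 2 → ∃ i ∈ C, orderOf i = 4) := by
    intro h2
    have habel := commute_of_central_cyclic hG₁p C hCc hord h2
    obtain ⟨x, hxH, hxQ⟩ := c.exists_notMem
    have h0 := c.outer (ρ x) (Submodule.subset_span ⟨x, ⟨hxH, hxQ⟩, rfl⟩) (fun h hh v hv => by
      have h' := congrArg (fun u : G₁ => ((u : (Module.End F W)ˣ) : Module.End F W))
        (habel (f ⟨x, hxH⟩) (f ⟨h, hh⟩)).eq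
      have h'' := congrArg (fun e : Module.End F W => ((e ⟨v, hv⟩ : W) : V)) h'
      simpa [hfval, hgapp] using h'') v₀ hv₀
    exact hv₀0 (by rw [← rho_inv_cancel ρ x v₀, h0, map_zero])
  obtain ⟨rfl, hno4⟩ : p = 2 ∧ ∀ i ∈ C, orderOf i ≠ 4 := by
    by_contra hcon
    refine hnot fun h => ?_
    by_contra hcon'
    exact hcon ⟨h, fun i hi hi' => hcon' ⟨i, hi, hi'⟩⟩
  refine ⟨rfl, fun q hq => ⟨a q hq, ?_, ha q hq⟩⟩
  -- the elements of C square to one
  set i₀ := f ⟨q, c.le hq⟩ with hi₀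
  have hi₀C : i₀ ∈ C := ⟨⟨q, c.le hq⟩, hq, rfl⟩
  have hsq : i₀ ^ 2 = 1 := by
    obtain ⟨k, hk⟩ := IsPGroup.iff_orderOf.mp hG₁p i₀
    by_contra hne
    have hk2 : 2 ≤ k := by
      by_contra hlt
      refine hne (orderOf_dvd_iff_pow_eq_one.mp ?_)
      rw [hk]
      exact (pow_dvd_pow 2 (show k ≤ 1 by omega)).trans (by norm_num)
    refine hno4 (i₀ ^ 2 ^ (k - 2)) (C.pow_mem hi₀C _) ?_
    rw [orderOf_pow' _ (by positivity), hk, Nat.gcd_eq_right (pow_dvd_pow 2 (Nat.sub_le k 2)),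
      Nat.pow_div (Nat.sub_le k 2) (by norm_num), show k - (k - 2) = 2 by omega]
  have h' := congrArg (fun u : G₁ =>
    ((((u : (Module.End F W)ˣ) : Module.End F W) ⟨v₀, hv₀⟩ : W) : V)) hsq
  simp only [pow_two, Subgroup.coe_mul, Units.val_mul, Module.End.mul_apply, hi₀, hfval, hgapp,
    Subgroup.coe_one, Units.val_one, Module.End.one_apply] at h'
  rw [ha q hq v₀ hv₀, map_smul, ha q hq v₀ hv₀, smul_smul] at h'
  exact huniq _ _ (h'.trans (one_smul F v₀).symm)

end CfsgLib.FgsC.CaminaKernel
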